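import Cfsg.Agent.Lib.Presented.VCert

/-! Generated coset table certificate (13 cosets). -/
set_option autoImplicit false
set_option maxRecDepth 8000

namespace CfsgLib.MTwelveAmalgam.CertOne

open CfsgLib.Presented

/-- The alphabet. -/
def alphabet : Alphabet := ⟨10, (.leaf 0xa2481c6105083001)⟩

/-- The relators. -/
def relWords : List (List ℕ) := [[0, 0, 0],
  [2, 2, 2],
  [0, 2, 1, 3],
  [4, 4, 4],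
  [6, 6],
  [7, 7],
  [8, 8],
  [6, 7, 6, 7],
  [8, 6, 8, 7],
  [4, 0, 5, 1],
  [4, 2, 5, 1, 3],
  [6, 0, 6, 0],
  [6, 2, 6, 3],
  [7, 0, 7, 1],
  [7, 2, 7, 2],
  [6, 4, 6, 4],
  [7, 4, 7, 4],
  [8, 0, 8, 3],
  [8, 4, 8, 5, 7, 8, 5],
  [0, 0, 0],
  [4, 4, 4],
  [0, 4, 1, 5],
  [3, 3, 3],
  [6, 7, 6, 7],
  [7, 7],
  [9, 9],
  [6, 7, 7, 6, 7, 7],
  [9, 6, 7, 9, 7],
  [3, 0, 2, 1],
  [3, 4, 2, 1, 5],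
  [6, 7, 0, 6, 7, 0],
  [6, 7, 4, 6, 7, 5],
  [7, 0, 7, 1],
  [7, 4, 7, 4],
  [6, 7, 3, 6, 7, 3],
  [7, 3, 7, 3],
  [9, 0, 9, 5],
  [9, 3, 9, 2, 7, 9, 2],
  [9, 8, 6, 9, 8, 9, 6, 7, 8, 0, 9, 8, 6, 9, 8, 9, 6, 7, 8, 0, 9, 8, 6, 9, 8, 9, 6, 7, 8, 0]]

/-- The words fixing the base point. -/
def subWords : List (List ℕ) := [[0], [2], [4], [6], [7], [8], [9, 8, 9, 8, 9]]

/-- The network of a letter. -/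
def net0 : List Vec.Stage := [⟨8, 0x80⟩,
  ⟨4, 0x100⟩,
  ⟨2, 0x310⟩,
  ⟨1, 0x10⟩,
  ⟨4, 0x800⟩,
  ⟨8, 0x80⟩]

/-- The network of a letter. -/
def net1 : List Vec.Stage := [⟨8, 0x80⟩,
  ⟨4, 0xd00⟩,
  ⟨2, 0x1230⟩,
  ⟨1, 0x40⟩,
  ⟨2, 0x20⟩,
  ⟨4, 0x400⟩,
  ⟨8, 0x80⟩]

/-- The network of a letter. -/
def net2 : List Vec.Stage := [⟨8, 0x80⟩,
  ⟨4, 0x900⟩,
  ⟨2, 0x300⟩,
  ⟨1, 0x4⟩,
  ⟨2, 0x2⟩,
  ⟨8, 0x80⟩]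

/-- The network of a letter. -/
def net3 : List Vec.Stage := [⟨8, 0x80⟩,
  ⟨4, 0x500⟩,
  ⟨2, 0x1202⟩,
  ⟨1, 0x4⟩,
  ⟨4, 0xc00⟩,
  ⟨8, 0x80⟩]

/-- The network of a letter. -/
def net4 : List Vec.Stage := [⟨8, 0xb8⟩,
  ⟨4, 0x308⟩,
  ⟨2, 0x2210⟩,
  ⟨1, 0x1440⟩,
  ⟨2, 0x2200⟩,
  ⟨4, 0x8⟩,
  ⟨8, 0xb8⟩]

/-- The network of a letter. -/
def net5 : List Vec.Stage := [⟨8, 0xb8⟩,
  ⟨4, 0xf08⟩,
  ⟨2, 0x2230⟩,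
  ⟨1, 0x4110⟩,
  ⟨2, 0x2220⟩,
  ⟨4, 0xc08⟩,
  ⟨8, 0xb8⟩]

/-- The network of a letter. -/
def net6 : List Vec.Stage := [⟨8, 0x80⟩,
  ⟨4, 0xe00⟩,
  ⟨2, 0x220⟩,
  ⟨1, 0x5140⟩,
  ⟨2, 0x220⟩,
  ⟨4, 0xe00⟩,
  ⟨8, 0x80⟩]

/-- The network of a letter. -/
def net7 : List Vec.Stage := [⟨8, 0x80⟩,
  ⟨4, 0x900⟩,
  ⟨2, 0x2300⟩,
  ⟨1, 0x1504⟩,
  ⟨2, 0x2000⟩,
  ⟨8, 0x80⟩]

/-- The network of a letter. -/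
def net8 : List Vec.Stage := [⟨4, 0xa⟩,
  ⟨2, 0x202⟩,
  ⟨1, 0x54⟩,
  ⟨2, 0x2⟩,
  ⟨4, 0xa⟩]

/-- The network of a letter. -/
def net9 : List Vec.Stage := [⟨8, 0x40⟩,
  ⟨4, 0xc00⟩,
  ⟨2, 0x120⟩,
  ⟨1, 0x4001⟩,
  ⟨4, 0xc00⟩,
  ⟨8, 0x40⟩]

/-- The representation. -/
def rep : Rep := ⟨alphabet, 4, 13, [net0, net1, net2, net3, net4, net5, net6, net7, net8, net9]⟩

/-- The tree. -/
def tree : List ℕ := [0, 0, 0x4, 0x8, 0xa80, 0x1500, 0, 0, 0x70, 0x2]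

/-- The steps. -/
def steps : List VStep := [.rel 1 0 false,
  .rel 3 0 false,
  .rel 17 1 false,
  .rel 21 0 false,
  .rel 21 2 false,
  .sub 0 0,
  .sub 1 0,
  .sub 2 0,
  .sub 3 0,
  .sub 4 0,
  .sub 5 0,
  .sub 6 2,
  .rel 27 4 false,
  .rel 27 3 true,
  .rel 35 0 false,
  .rel 36 0 false,
  .rel 36 1 false,
  .rel 36 2 false,
  .rel 36 3 false,
  .rel 36 1 true,
  .rel 37 0 false,
  .rel 37 2 false,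
  .rel 2 0 false,
  .rel 2 2 false,
  .rel 8 1 false,
  .rel 8 3 false,
  .rel 10 0 false,
  .rel 10 2 false,
  .rel 12 0 false,
  .rel 12 2 false,
  .rel 13 0 false,
  .rel 13 2 false,
  .rel 15 0 false,
  .rel 16 0 false,
  .rel 17 3 false,
  .rel 18 0 false,
  .rel 18 2 false,
  .rel 29 0 false,
  .rel 29 2 false]

/-- The certificate. -/
def cert : VCert := ⟨rep, relWords, subWords, tree, steps⟩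

theorem cert_ok : cert.ok = true := by decide +kernel

end CfsgLib.MTwelveAmalgam.CertOne
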