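import Cfsg.Agent.Lib.Recognition.MTwelveAmalgam.Completion
import Cfsg.Agent.Lib.Recognition.MTwelveAmalgam.SeedOne
import Cfsg.Agent.Lib.Recognition.MTwelveAmalgam.SeedTwo
import Cfsg.Agent.Lib.Recognition.MTwelveAmalgam.CertOne
import Cfsg.Agent.Lib.Recognition.MTwelveAmalgam.CertTwo
import Mathlib.GroupTheory.GroupAction.Quotient

/-!
# The orders of the two completions
-/

set_option autoImplicit false

namespace CfsgLib.MTwelveAmalgam

open Subgroup CfsgLib.Presented

variable {W : Type*} [Group W] {e f u a b w v : W}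

theorem one_data : SeedOne.relWords = relOne ∧ CertOne.relWords = relOne ∧
    SeedOne.subWords = [[0], [2], [4], [6], [7], [8]] ∧
    CertOne.subWords = SeedOne.subWords ++ [[9, 8, 9, 8, 9]] := by decide +kernel

theorem two_data : SeedTwo.relWords = relTwo ∧ CertTwo.relWords = relTwo ∧
    SeedTwo.subWords = [[0], [2], [4], [6], [7], [8]] ∧
    CertTwo.subWords = SeedTwo.subWords ++ [[9, 8, 9, 8, 9, 8, 9, 8, 9, 8, 9],
      [9, 2, 8, 9, 8, 4, 3, 9, 8, 4, 2, 9, 8, 9]] := by decide +kernel

theorem alphabets : (∀ x < 10, SeedOne.alphabet.invl x = invLet x ∧ SeedTwo.alphabet.invl x = invLet x ∧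
    CertOne.alphabet.invl x = invLet x ∧ CertTwo.alphabet.invl x = invLet x) := by decide +kernel

theorem base_mem (l : List ℕ) (hl : l ∈ ([[0], [2], [4], [6], [7], [8]] : List (List ℕ))) :
    evW (ev7 e f u a b w v) l ∈ halfA e f u a b w := by
  simp only [List.mem_cons, List.not_mem_nil, or_false] at hl
  rcases hl with rfl | rfl | rfl | rfl | rfl | rfl <;>
    exact subset_closure (by simp [ev7])

/-- A word fixing the base coset lies in the subgroup. -/
theorem mem_of_loop {H : Subgroup W} {x : W} (h : x • ((1 : W) : W ⧸ H) = ((1 : W) : W ⧸ H)) : x ∈ H := by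
  rw [MulAction.Quotient.smul_coe, smul_eq_mul, mul_one, QuotientGroup.eq, mul_one] at h
  exact inv_mem_iff.1 h

theorem fix_of_mem {H : Subgroup W} {x : W} (h : x ∈ H) : x • ((1 : W) : W ⧸ H) = ((1 : W) : W ⧸ H) := by
  rw [MulAction.Quotient.smul_coe, smul_eq_mul, mul_one, QuotientGroup.eq, mul_one]
  exact inv_mem h

theorem rels_v {l : List (List ℕ)} (hl : ∀ r ∈ relB, r ∈ l)
    (h : ∀ r ∈ l, evW (ev7 e f u a b w v) r = 1) : v * v = 1 := by
  simpa [ev7] using h [9, 9] (hl _ (by decide))

/-- The completion in the first case has at most `5616` elements. -/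
theorem card_le_one (h : ∀ r ∈ relOne, evW (ev7 e f u a b w v) r = 1) :
    Finite (closure ({e, f, u, a, b, w, v} : Set W)) ∧
      Nat.card (closure ({e, f, u, a, b, w, v} : Set W)) ≤ 5616 := by
  obtain ⟨d1, d2, d3, d4⟩ := one_data
  have hA : ∀ r ∈ relA, evW (ev7 e f u a b w v) r = 1 := fun r hr => h r (by simp [relOne, hr])
  have hv := rels_v (fun r hr => by simp [relOne, hr]) h
  set H := halfA e f u a b w
  have hI : SeedOne.enum.Interp (ev7 e f u a b w v) ((1 : W) : W ⧸ H) :=
    ⟨rfl, fun x hx => by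
        have hx' : x < 10 := hx
        show ev7 e f u a b w v (SeedOne.alphabet.invl x) * _ = 1
        rw [(alphabets x hx').1]; exact letter_inv hA hv hx',
      fun r hr => h r (d1 ▸ hr), fun r hr => fix_of_mem (base_mem r (d3 ▸ hr))⟩
  refine card_closure_le (C := CertOne.cert) CertOne.cert_ok rfl (fun x hx => (alphabets x hx).2.2.1) hA hv
    (fun r hr => h r (d2 ▸ hr)) fun r hr => ?_
  have hr' : r ∈ CertOne.subWords := hr
  rw [d4] at hr'
  rcases List.mem_append.1 hr' with hr | hr
  · exact base_mem r (d3 ▸ hr)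
  · rw [List.mem_singleton.1 hr]; exact mem_of_loop (SeedOne.loop0 hI)

/-- The completion in the second case has at most `95040` elements. -/
theorem card_le_two (h : ∀ r ∈ relTwo, evW (ev7 e f u a b w v) r = 1) :
    Finite (closure ({e, f, u, a, b, w, v} : Set W)) ∧
      Nat.card (closure ({e, f, u, a, b, w, v} : Set W)) ≤ 95040 := by
  obtain ⟨d1, d2, d3, d4⟩ := two_data
  have hA : ∀ r ∈ relA, evW (ev7 e f u a b w v) r = 1 := fun r hr => h r (by simp [relTwo, hr])
  have hv := rels_v (fun r hr => by simp [relTwo, hr]) h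
  set H := halfA e f u a b w
  have hI : SeedTwo.enum.Interp (ev7 e f u a b w v) ((1 : W) : W ⧸ H) :=
    ⟨rfl, fun x hx => by
        have hx' : x < 10 := hx
        show ev7 e f u a b w v (SeedTwo.alphabet.invl x) * _ = 1
        rw [(alphabets x hx').2.1]; exact letter_inv hA hv hx',
      fun r hr => h r (d1 ▸ hr), fun r hr => fix_of_mem (base_mem r (d3 ▸ hr))⟩
  refine card_closure_le (C := CertTwo.cert) CertTwo.cert_ok rfl (fun x hx => (alphabets x hx).2.2.2) hA hv
    (fun r hr => h r (d2 ▸ hr)) fun r hr => ?_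
  have hr' : r ∈ CertTwo.subWords := hr
  rw [d4] at hr'
  rcases List.mem_append.1 hr' with hr | hr
  · exact base_mem r (d3 ▸ hr)
  · rcases List.mem_cons.1 hr with rfl | hr
    · exact mem_of_loop (SeedTwo.loop0 hI)
    · rw [List.mem_singleton.1 hr]; exact mem_of_loop (SeedTwo.loop1 hI)

end CfsgLib.MTwelveAmalgam
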