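import Cfsg.Agent.Lib.Recognition.CosetCert

/-! Generated coset table for a group of order 48 on four generators. -/

set_option autoImplicit false
set_option maxRecDepth 8000

namespace CfsgLib.MTwelveAmalgam.CertK

/-- The relators in `u, a, b, w`. -/
def rels : List (List ℕ) := [[0,0,0],[1,1],[2,2],[3,3],[1,2,1,2],[3,1,3,2],[1,0,1,0],[2,0,2,0],[3,0,3,0,0,2,3,0,0]]

/-- The representatives. -/
def reps : List (List ℕ) := [[],[0],[1],[2],[3],[0,0],[0,1],[0,2],[0,3],[1,0],[1,2],[1,3],[2,0],[2,3],[3,0],[0,0,3],[0,1,2],[0,1,3],[0,2,3],[0,3,0],[1,0,2],[1,0,3],[1,2,3],[1,3,0],[2,0,3],[2,3,0],[3,0,0],[3,0,1],[3,0,2],[3,0,3],[0,0,3,0],[0,1,2,3],[0,2,3,0],[0,3,0,0],[0,3,0,1],[0,3,0,2],[0,3,0,3],[1,0,2,3],[1,2,3,0],[1,3,0,1],[2,0,3,0],[2,3,0,3],[3,0,0,3],[3,0,2,3],[0,0,3,0,0],[0,0,3,0,2],[0,1,2,3,0],[0,3,0,2,3]]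

/-- The definitions. -/
def init : List CfsgLib.CosetCert.Entry := [(0,0,1),(0,1,2),(0,2,3),(0,3,4),(1,0,5),(1,1,6),(1,2,7),(1,3,8),(2,0,9),(2,2,10),(2,3,11),(3,0,12),(3,3,13),(4,0,14),(5,3,15),(6,2,16),(6,3,17),(7,3,18),(8,0,19),(9,2,20),(9,3,21),(10,3,22),(11,0,23),(12,3,24),(13,0,25),(14,0,26),(14,1,27),(14,2,28),(14,3,29),(15,0,30),(16,3,31),(18,0,32),(19,0,33),(19,1,34),(19,2,35),(19,3,36),(20,3,37),(22,0,38),(23,1,39),(24,0,40),(25,3,41),(26,3,42),(28,3,43),(30,0,44),(30,2,45),(31,0,46),(35,3,47)]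

/-- The deductions. -/
def steps : List (ℕ × ℕ × ℕ) := [(0,0,0),(0,0,4),(0,0,8),(0,0,15),(1,0,0),(1,0,1),(1,0,14),(1,0,19),(1,0,23),(2,0,0),(2,0,1),(2,0,2),(2,0,6),(2,0,9),(2,0,14),(2,0,19),(2,0,30),(3,0,0),(3,0,1),(3,0,2),(3,0,3),(3,0,5),(3,0,6),(3,0,7),(3,0,9),(3,0,10),(3,0,12),(3,0,14),(3,0,16),(3,0,19),(3,0,20),(3,0,25),(3,0,26),(3,0,28),(3,0,35),(4,1,3),(4,1,7),(4,1,10),(4,1,16),(5,0,4),(5,0,8),(5,0,11),(5,0,13),(5,0,17),(5,0,18),(5,0,22),(5,0,31),(5,2,4),(5,2,8),(5,2,11),(5,2,13),(5,2,17),(5,2,18),(5,2,21),(5,2,22),(5,2,29),(5,2,31),(5,2,36),(5,2,37),(5,2,43),(5,2,47),(6,0,2),(6,0,13),(6,0,18),(6,0,22),(6,1,5),(6,1,26),(6,1,33),(7,0,3),(7,0,10),(7,0,11),(7,0,16),(7,0,17),(7,1,5),(7,1,26),(7,1,27),(7,1,34),(7,1,39),(8,1,34),(8,2,36),(8,4,35),(8,5,28),(8,6,29),(8,6,36),(0,0,6),(0,0,7),(0,0,20),(0,0,27)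,(0,0,29),(0,0,34),(0,0,39),(1,0,9),(1,0,25),(1,0,32),(2,0,12),(2,0,23),(2,0,25),(2,0,33),(2,0,38),(2,0,44),(2,0,46),(3,0,44),(4,0,32),(4,0,43),(4,1,12),(4,1,20),(4,1,28),(4,1,35),(4,1,38),(4,1,46),(5,0,15),(5,0,21),(5,0,24),(5,0,37),(5,0,41),(5,0,42),(5,1,27),(5,1,32),(5,1,38),(5,2,15),(5,2,24),(5,3,33),(6,0,31),(6,0,37),(6,0,43),(6,1,44),(7,0,21),(7,0,45),(7,1,47),(8,0,41),(8,0,42),(8,0,47),(8,1,23),(8,1,30),(8,1,39),(8,1,40),(8,1,45),(8,2,24),(8,3,46),(8,6,40),(1,0,40),(5,2,30),(5,2,41),(5,2,42),(5,2,45)]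

theorem check_ok : CfsgLib.CosetCert.check 4 [] rels reps init steps = true := by decide +kernel

theorem card_reps : reps.length = 48 := by decide +kernel

end CfsgLib.MTwelveAmalgam.CertK
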