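import Cfsg.Agent.Lib.Recognition.MTwelveAmalgam.Relations
import Cfsg.Agent.Lib.Recognition.MTwelveAmalgam.CertK
import Cfsg.Agent.Lib.Presented.Coset
import Mathlib.GroupTheory.Index
import Mathlib.Algebra.Group.Subgroup.Pointwise

/-!
# A bound on the order of a group satisfying the relations
-/

set_option autoImplicit false

namespace CfsgLib.MTwelveAmalgam

open Subgroup CfsgLib.Presented
open scoped Pointwise

variable {W : Type*} [Group W] {e f u a b w v : W}

/-- The inverse letters. -/
def invLet (x : ℕ) : ℕ := [1, 0, 3, 2, 5, 4, 6, 7, 8, 9].getD x x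

/-- The half generated by the first nine letters. -/
def halfA (e f u a b w : W) : Subgroup W := closure ({e, f, u, a, b, w} : Set W)

theorem eval_eq (g : ℕ → W) (l : List ℕ) : CfsgLib.CosetCert.eval g l = evW g l := rfl

/-- The first half has at most 432 elements. -/
theorem card_halfA (h : ∀ l ∈ relA, evW (ev7 e f u a b w v) l = 1) :
    Finite (halfA e f u a b w) ∧ Nat.card (halfA e f u a b w) ≤ 432 := by
  have r : ∀ l ∈ relA, evW (ev7 e f u a b w v) l = 1 := h
  have e3 : e * (e * e) = 1 := by simpa [ev7] using r [0, 0, 0] (by decide)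
  have f3 : f * (f * f) = 1 := by simpa [ev7] using r [2, 2, 2] (by decide)
  have u3 : u * (u * u) = 1 := by simpa [ev7] using r [4, 4, 4] (by decide)
  have a2 : a * a = 1 := by simpa [ev7] using r [6, 6] (by decide)
  have b2 : b * b = 1 := by simpa [ev7] using r [7, 7] (by decide)
  have w2 : w * w = 1 := by simpa [ev7] using r [8, 8] (by decide)
  have ef : e * f * e⁻¹ * f⁻¹ = 1 := by simpa [ev7, mul_assoc] using r [0, 2, 1, 3] (by decide)
  have ue : u * e * u⁻¹ * e⁻¹ = 1 := by simpa [ev7, mul_assoc] using r [4, 0, 5, 1] (by decide)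
  have uf : u * f * u⁻¹ * e⁻¹ * f⁻¹ = 1 := by simpa [ev7, mul_assoc] using r [4, 2, 5, 1, 3] (by decide)
  have ae : a * e * a * e = 1 := by simpa [ev7, mul_assoc] using r [6, 0, 6, 0] (by decide)
  have af : a * f * a * f⁻¹ = 1 := by simpa [ev7, mul_assoc] using r [6, 2, 6, 3] (by decide)
  have be : b * e * b * e⁻¹ = 1 := by simpa [ev7, mul_assoc] using r [7, 0, 7, 1] (by decide)
  have bf : b * f * b * f = 1 := by simpa [ev7, mul_assoc] using r [7, 2, 7, 2] (by decide)
  have we : w * e * w * f⁻¹ = 1 := by simpa [ev7, mul_assoc] using r [8, 0, 8, 3] (by decide)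
  have hinv : ∀ {z : W}, z * (z * z) = 1 → z⁻¹ = z * z := fun hz => inv_eq_of_mul_eq_one_right hz
  -- the group of the four linear letters
  set K := closure ({u, a, b, w} : Set W) with hK
  let g : ℕ → K := fun n =>
    if n = 0 then ⟨u, subset_closure (by simp)⟩ else if n = 1 then ⟨a, subset_closure (by simp)⟩
    else if n = 2 then ⟨b, subset_closure (by simp)⟩ else ⟨w, subset_closure (by simp)⟩
  have hrel : ∀ l ∈ CertK.rels, CfsgLib.CosetCert.eval g l = 1 := by
    intro l hl
    apply Subtype.ext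
    have key : ∀ m : List ℕ, ((CfsgLib.CosetCert.eval g m : K) : W) = evW (fun n => (g n : W)) m := by
      intro m
      induction m with
      | nil => simp [CfsgLib.CosetCert.eval]
      | cons x m ih => rw [CfsgLib.CosetCert.eval_cons, coe_mul, ih, evW_cons]
    rw [key, OneMemClass.coe_one]
    simp only [CertK.rels, List.mem_cons, List.not_mem_nil, or_false] at hl
    rcases hl with rfl | rfl | rfl | rfl | rfl | rfl | rfl | rfl | rfl <;>
      simp only [evW_cons, evW_nil, g, mul_one, ↓reduceIte, one_ne_zero, OfNat.ofNat_ne_zero,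
        OfNat.ofNat_ne_one]
    · exact u3
    · exact a2
    · exact b2
    · exact w2
    · simpa [ev7] using r [6, 7, 6, 7] (by decide)
    · simpa [ev7] using r [8, 6, 8, 7] (by decide)
    · simpa [ev7] using r [6, 4, 6, 4] (by decide)
    · simpa [ev7] using r [7, 4, 7, 4] (by decide)
    · have := r [8, 4, 8, 5, 7, 8, 5] (by decide)
      simp only [ev7, evW_cons, evW_nil, List.getD_cons_zero, List.getD_cons_succ, mul_one, hinv u3] at this
      simpa [mul_assoc] using this
  have hgen : closure (g '' {n | n < 4}) = ⊤ := by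
    refine eq_top_iff.2 fun x _ => ?_
    obtain ⟨x, hx⟩ := x
    induction hx using closure_induction with
    | mem y hy =>
      rcases hy with rfl | rfl | rfl | rfl
      · exact subset_closure ⟨0, by simp, Subtype.ext (by simp [g])⟩
      · exact subset_closure ⟨1, by simp, Subtype.ext (by simp [g])⟩
      · exact subset_closure ⟨2, by simp, Subtype.ext (by simp [g])⟩
      · exact subset_closure ⟨3, by simp, Subtype.ext (by simp [g])⟩
    | one => exact one_mem _
    | mul p q hp hq h1 h2 => exact mul_mem (h1 (mem_top _)) (h2 (mem_top _))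
    | inv p hp h1 => exact inv_mem (h1 (mem_top _))
  have hfin : ∀ n < 4, IsOfFinOrder (g n) := by
    intro n hn
    interval_cases n
    · exact isOfFinOrder_iff_pow_eq_one.2 ⟨3, by norm_num, Subtype.ext (by simpa [g, pow_succ, mul_assoc] using u3)⟩
    · exact isOfFinOrder_iff_pow_eq_one.2 ⟨2, by norm_num, Subtype.ext (by simpa [g, pow_two] using a2)⟩
    · exact isOfFinOrder_iff_pow_eq_one.2 ⟨2, by norm_num, Subtype.ext (by simpa [g, pow_two] using b2)⟩
    · exact isOfFinOrder_iff_pow_eq_one.2 ⟨2, by norm_num, Subtype.ext (by simpa [g, pow_two] using w2)⟩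
  obtain ⟨hKfin, hKle⟩ := CfsgLib.CosetCert.finite_card_le (H := (⊥ : Subgroup K))
    (fun n hn => absurd hn List.not_mem_nil) hrel CertK.check_ok hgen hfin
  have hKcard : Nat.card K ≤ 48 := by simpa [CertK.card_reps] using hKle
  -- the translations
  set Q := closure ({e, f} : Set W) with hQ
  have hef : Commute e f := by
    have := mul_inv_eq_one.1 ef
    exact mul_inv_eq_iff_eq_mul.1 this
  let T : Fin 3 × Fin 3 → W := fun p => e ^ (p.1 : ℕ) * f ^ (p.2 : ℕ)
  have he' : e ^ 3 = 1 := by rw [pow_succ', pow_two, e3]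
  have hf' : f ^ 3 = 1 := by rw [pow_succ', pow_two, f3]
  let Q' : Subgroup W :=
    { carrier := Set.range T
      one_mem' := ⟨(0, 0), by simp [T]⟩
      mul_mem' := by
        rintro _ _ ⟨⟨p, q⟩, rfl⟩ ⟨⟨p', q'⟩, rfl⟩
        refine ⟨(p + p', q + q'), ?_⟩
        simp only [T, Fin.val_add, ← pow_eq_pow_mod _ he', ← pow_eq_pow_mod _ hf', pow_add]
        rw [mul_assoc, mul_assoc, ← mul_assoc (e ^ (p' : ℕ)), (hef.pow_pow (p' : ℕ) (q : ℕ)).eq, mul_assoc]
      inv_mem' := by
        rintro _ ⟨⟨p, q⟩, rfl⟩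
        refine ⟨(-p, -q), ?_⟩
        have h3 : ∀ p : Fin 3, (((-p : Fin 3) : ℕ) + (p : ℕ)) % 3 = 0 := by decide
        refine eq_inv_of_mul_eq_one_left ?_
        simp only [T]
        rw [mul_assoc, ← mul_assoc (f ^ _), (hef.pow_pow (p : ℕ) ((-q : Fin 3) : ℕ)).symm.eq, mul_assoc,
          ← pow_add, ← mul_assoc, ← pow_add, pow_eq_pow_mod _ he', pow_eq_pow_mod _ hf', h3, h3, pow_zero,
          pow_zero, one_mul] }
  have hQQ : Q ≤ Q' := (closure_le _).2 (by
    rintro x (rfl | rfl)
    · exact ⟨(1, 0), by simp [T]⟩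
    · exact ⟨(0, 1), by simp [T]⟩)
  have hTf : (Set.range T).Finite := Set.finite_range T
  have hQ'fin : Finite Q' := Set.finite_coe_iff.2 hTf
  have hQfin : Finite Q := Finite.of_injective _ (inclusion_injective hQQ)
  have hQcard : Nat.card Q ≤ 9 := by
    refine (Nat.card_le_card_of_injective _ (inclusion_injective hQQ)).trans ?_
    have := Finite.card_range_le T
    have hP : Nat.card (Fin 3 × Fin 3) = 9 := by simp
    rw [hP] at this
    exact this
  have hQe : e ∈ Q := subset_closure (by simp)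
  have hQf : f ∈ Q := subset_closure (by simp)
  have conjQ : ∀ x : W, x * e * x⁻¹ ∈ Q → x * f * x⁻¹ ∈ Q → ∀ q ∈ Q, x * q * x⁻¹ ∈ Q := by
    intro x h1 h2 q hq
    induction hq using closure_induction with
    | mem y hy => rcases hy with rfl | rfl <;> assumption
    | one => simp
    | mul p q hp hq i1 i2 =>
      rw [show x * (p * q) * x⁻¹ = (x * p * x⁻¹) * (x * q * x⁻¹) by group]; exact mul_mem i1 i2
    | inv p hp i1 => rw [show x * p⁻¹ * x⁻¹ = (x * p * x⁻¹)⁻¹ by group]; exact inv_mem i1
  have hKn : K ≤ normalizer (Q : Set W) := by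
    rw [hK, closure_le]
    have key : ∀ x, (∀ q ∈ Q, x * q * x⁻¹ ∈ Q) → x ∈ normalizer (Q : Set W) := fun x hx =>
      mem_normalizer_fintype hx
    have ia : a⁻¹ = a := inv_eq_of_mul_eq_one_right a2
    have ib : b⁻¹ = b := inv_eq_of_mul_eq_one_right b2
    have iw : w⁻¹ = w := inv_eq_of_mul_eq_one_right w2
    have hwf : w * f * w = e := by
      calc w * f * w = w * (w * e * w) * w := by rw [mul_inv_eq_one.1 we]
        _ = (w * w) * e * (w * w) := by group
        _ = e := by rw [w2, one_mul, mul_one]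
    rintro x (rfl | rfl | rfl | rfl)
    · refine key _ (conjQ _ ?_ ?_)
      · rw [mul_inv_eq_one.1 ue]; exact hQe
      · rw [mul_inv_eq_iff_eq_mul.1 (mul_inv_eq_one.1 uf)]; exact mul_mem hQf hQe
    · refine key _ (conjQ _ ?_ ?_) <;> rw [ia]
      · rw [eq_inv_of_mul_eq_one_left ae]; exact inv_mem hQe
      · rw [mul_inv_eq_one.1 af]; exact hQf
    · refine key _ (conjQ _ ?_ ?_) <;> rw [ib]
      · rw [mul_inv_eq_one.1 be]; exact hQe
      · rw [eq_inv_of_mul_eq_one_left bf]; exact inv_mem hQf
    · refine key _ (conjQ _ ?_ ?_) <;> rw [iw]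
      · rw [mul_inv_eq_one.1 we]; exact hQf
      · rw [hwf]; exact hQe
  have hHle : halfA e f u a b w ≤ K ⊔ Q := by
    rw [halfA, closure_le]
    rintro x (rfl | rfl | rfl | rfl | rfl | rfl)
    · exact mem_sup_right hQe
    · exact mem_sup_right hQf
    all_goals exact mem_sup_left (subset_closure (by simp))
  have hset : ((K ⊔ Q : Subgroup W) : Set W) = (K : Set W) * (Q : Set W) :=
    Subgroup.coe_mul_of_left_le_normalizer_right K Q hKn
  let F : K × Q → (K ⊔ Q : Subgroup W) := fun p =>
    ⟨(p.1 : W) * p.2, mul_mem (mem_sup_left p.1.2) (mem_sup_right p.2.2)⟩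
  have hF : Function.Surjective F := by
    rintro ⟨x, hx⟩
    obtain ⟨k, hk, n, hn, rfl⟩ := Set.mem_mul.1 (hset ▸ hx : x ∈ (K : Set W) * (Q : Set W))
    exact ⟨(⟨k, hk⟩, ⟨n, hn⟩), rfl⟩
  have hsupfin : Finite (K ⊔ Q : Subgroup W) := Finite.of_surjective F hF
  refine ⟨Finite.of_injective _ (inclusion_injective hHle), ?_⟩
  refine ((Nat.card_le_card_of_injective _ (inclusion_injective hHle)).trans
    (Nat.card_le_card_of_surjective F hF)).trans ?_
  rw [Nat.card_prod]
  exact Nat.mul_le_mul hKcard hQcard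

theorem letter_inv (h : ∀ l ∈ relA, evW (ev7 e f u a b w v) l = 1) (hv : v * v = 1) {x : ℕ} (hx : x < 10) :
    ev7 e f u a b w v (invLet x) * ev7 e f u a b w v x = 1 := by
  interval_cases x <;> simp only [invLet, ev7, List.getD_cons_zero, List.getD_cons_succ]
  all_goals first
    | exact inv_mul_cancel _
    | exact mul_inv_cancel _
    | exact hv
    | simpa [ev7] using h [6, 6] (by decide)
    | simpa [ev7] using h [7, 7] (by decide)
    | simpa [ev7] using h [8, 8] (by decide)

/-- A certificate bounds the order of the completion. -/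
theorem card_closure_le {C : VCert} (hok : C.ok = true) (heps : C.R.A.eps = 10)
    (hinv : ∀ x, x < 10 → C.R.A.invl x = invLet x)
    (hA : ∀ l ∈ relA, evW (ev7 e f u a b w v) l = 1) (hv : v * v = 1)
    (hrels : ∀ l ∈ C.rels, evW (ev7 e f u a b w v) l = 1)
    (hsubs : ∀ l ∈ C.subs, evW (ev7 e f u a b w v) l ∈ halfA e f u a b w) :
    Finite (closure ({e, f, u, a, b, w, v} : Set W)) ∧
      Nat.card (closure ({e, f, u, a, b, w, v} : Set W)) ≤ C.R.N * 432 := by
  obtain ⟨hHfin, hHcard⟩ := card_halfA hA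
  set H := halfA e f u a b w with hH
  set Γ := closure ({e, f, u, a, b, w, v} : Set W) with hΓ
  have hHΓ : H ≤ Γ := closure_mono (by intro x; simp only [Set.mem_insert_iff, Set.mem_singleton_iff]; tauto)
  obtain ⟨hne, hle⟩ := VCert.relIndex_le (C := C) (ev := ev7 e f u a b w v) (H := H) (K := Γ) hok
    (by rw [heps]; rfl) (fun x hx => by rw [heps] at hx; rw [hinv x hx]; exact letter_inv hA hv hx)
    hrels hsubs (by
      rw [hΓ, closure_le]
      rintro x (rfl | rfl | rfl | rfl | rfl | rfl | rfl)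
      · exact subset_closure ⟨0, by simp [heps], rfl⟩
      · exact subset_closure ⟨2, by simp [heps], rfl⟩
      · exact subset_closure ⟨4, by simp [heps], rfl⟩
      · exact subset_closure ⟨6, by simp [heps], rfl⟩
      · exact subset_closure ⟨7, by simp [heps], rfl⟩
      · exact subset_closure ⟨8, by simp [heps], rfl⟩
      · exact subset_closure ⟨9, by simp [heps], rfl⟩)
  have e1 := (H.subgroupOf Γ).card_mul_index
  rw [Nat.card_congr (subgroupOfEquivOfLe hHΓ).toEquiv] at e1
  change Nat.card H * H.relIndex Γ = Nat.card Γ at e1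
  have hpos : 0 < Nat.card Γ := by rw [← e1]; exact Nat.mul_pos Nat.card_pos (Nat.pos_of_ne_zero hne)
  refine ⟨Nat.finite_of_card_ne_zero hpos.ne', ?_⟩
  rw [← e1, mul_comm]
  exact Nat.mul_le_mul hle hHcard

end CfsgLib.MTwelveAmalgam
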