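import Cfsg.Agent.Lib.SelfThree29.Main
import Mathlib.GroupTheory.Sylow
import Mathlib.GroupTheory.Transfer

/-!
# An involution in the `3'`-core of a group with a self-centralizing element of order three
-/

set_option autoImplicit false

namespace CfsgLib.MTwelveAmalgam

open Subgroup CfsgLib.SelfThree29

universe u

/-- A simple group of order sixty has no element of order four. -/
theorem no_four {L : Type u} [Group L] [Finite L] [IsSimpleGroup L] (h60 : Nat.card L = 60) (r : L) :
    orderOf r ≠ 4 := by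
  intro hr
  have : Fact (Nat.Prime 2) := ⟨Nat.prime_two⟩
  let P : Sylow 2 L := Sylow.ofCard (zpowers r) (by
    rw [Nat.card_zpowers, hr, h60, show (60 : ℕ) = 2 ^ 2 * 15 by norm_num,
      Nat.factorization_mul_apply_of_coprime (by norm_num), Nat.prime_two.factorization_pow,
      Finsupp.single_eq_same, Nat.factorization_eq_zero_of_not_dvd (by norm_num)]
    norm_num)
  have : IsCyclic (P : Subgroup L) := by rw [Sylow.coe_ofCard]; infer_instance
  have hmin : (Nat.card L).minFac = 2 := by rw [h60]; norm_num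
  have hNC : normalizer ((P : Subgroup L) : Set L) ≤ centralizer ((P : Subgroup L) : Set L) :=
    IsCyclic.normalizer_le_centralizer hmin this
  have hc := MonoidHom.ker_transferSylow_isComplement' P hNC
  have h4 : Nat.card P = 4 := by rw [Sylow.coe_ofCard, Nat.card_zpowers, hr]
  have hcard := hc.card_mul_card
  rcases (MonoidHom.normal_ker (MonoidHom.transferSylow P hNC)).eq_bot_or_eq_top
    with h | h
  · rw [h, card_bot, h4, h60] at hcard; omega
  · rw [h, card_top, h4, h60] at hcard; omega

variable {K : Type u} [Group K] [Finite K] {z s : K}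

/-- An involution centralized by the inverter, commuting with its conjugate under `z` and not conjugate
to the inverter lies in every maximal normal `3'`-subgroup. -/
theorem mem_core (hz : SC3 z) (hs : s * z * s⁻¹ = z⁻¹) {M : Subgroup K} [M.Normal]
    (h3 : ¬ 3 ∣ Nat.card M) (hred : ∀ N : Subgroup (K ⧸ M), N.Normal → ¬ 3 ∣ Nat.card N → N = ⊥)
    {x : K} (hxx : x * x = 1) (hsx : s * x * s⁻¹ = x)
    (hcomm : x * (z * x * z⁻¹) = z * x * z⁻¹ * x) (hnc : ∀ g : K, g * x * g⁻¹ ≠ s) : x ∈ M := by
  by_contra hxM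
  set q := QuotientGroup.mk' M with hq
  have hZ : SC3 (q z) := hz.quotient M h3
  have hS : q s * q z * (q s)⁻¹ = (q z)⁻¹ := by rw [← map_inv, ← map_inv, ← map_mul, ← map_mul, hs]
  have hX1 : q x ≠ 1 := fun h => hxM ((QuotientGroup.eq_one_iff x).1 h)
  have hXX : q x * q x = 1 := by rw [← map_mul, hxx, map_one]
  have hSX : q s * q x * (q s)⁻¹ = q x := by rw [← map_inv, ← map_mul, ← map_mul, hsx]
  have hC : q x * (q z * q x * (q z)⁻¹) = q z * q x * (q z)⁻¹ * q x := by
    simp only [← map_inv, ← map_mul, hcomm]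
  have hXi : (q x)⁻¹ = q x := inv_eq_of_mul_eq_one_right hXX
  have hfix : ∀ y : K ⧸ M, y * q z = q z * y → y * y = 1 → y = 1 := by
    intro y hy hy2
    rcases hZ.mem_zpowers_cases.1 (hZ.cent y hy) with h | h | h
    · exact h
    · exfalso; rw [h, hZ.mul_self] at hy2; exact hZ.ne_one (inv_eq_one.1 hy2)
    · exfalso; rw [h, ← mul_inv_rev, hZ.mul_self, inv_inv] at hy2; exact hZ.ne_one hy2
  rcases hZ.reduced_cases hred with h | ⟨h, -⟩ | ⟨hsimp, hbig, -⟩
  · refine hX1 (hfix _ ?_ hXX)
    have htop : zpowers (q z) = ⊤ := eq_top_of_card_eq _ (by rw [Nat.card_zpowers, hZ.ord, h])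
    obtain ⟨k, hk⟩ : q x ∈ zpowers (q z) := htop ▸ mem_top _
    have hk' : q z ^ k = q x := hk
    rw [← hk']; group
  · have hidx : (zpowers (q z)).index = 2 := by
      have := card_mul_index (zpowers (q z))
      rw [Nat.card_zpowers, hZ.ord, h] at this
      omega
    have hn := Subgroup.normal_of_index_eq_two hidx
    rcases hZ.mem_or_inverts (hn.conj_mem _ (mem_zpowers (q z)) (q x)) with h1 | h1
    · refine hX1 (hfix _ ?_ hXX)
      obtain ⟨k, hk⟩ := h1
      have hk' : q z ^ k = q x := hk
      rw [← hk']; group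
    · rw [hXi] at h1
      have e1 : q z * q x * (q z)⁻¹ = q x * q z := by
        have h2 : q z * q x = q x * (q z)⁻¹ := by
          calc q z * q x = (q x * q x) * q z * q x := by rw [hXX, one_mul]
            _ = q x * (q x * q z * q x) := by group
            _ = _ := by rw [h1]
        rw [h2, mul_assoc, ← mul_inv_rev, hZ.mul_self, inv_inv]
      rw [e1, ← mul_assoc, hXX, one_mul, h1] at hC
      exact hZ.inv_ne hC.symm
  · set X := q x with hX
    set Z := q z with hZdef
    set S := q s with hSdef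
    have hSS := hZ.inverter_mul_self hS
    have hSi : S⁻¹ = S := inv_eq_of_mul_eq_one_right hSS
    set X' := Z * X * Z⁻¹ with hX'
    set X'' := Z⁻¹ * X * Z with hX''
    have hSX' : S * X' * S = X'' := by
      calc S * X' * S = (S * Z * S⁻¹) * (S * X * S⁻¹) * (S * Z * S⁻¹)⁻¹ := by
            nth_rewrite 2 [← hSi]; rw [hX']; group
        _ = _ := by rw [hS, hSX, inv_inv]
    have hX'2 : X' * X' = 1 := by rw [hX', show Z * X * Z⁻¹ * (Z * X * Z⁻¹) = Z * (X * X) * Z⁻¹ by group, hXX]; group
    have hX''2 : X'' * X'' = 1 := by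
      rw [hX'', show Z⁻¹ * X * Z * (Z⁻¹ * X * Z) = Z⁻¹ * (X * X) * Z by group, hXX]; group
    have hne : X'' ≠ X' := by
      intro e
      apply hX1
      refine hfix X ?_ hXX
      calc X * Z = Z * (Z⁻¹ * X * Z) := by group
        _ = Z * (Z * X * Z⁻¹) := by rw [← hX'', e, hX']
        _ = (Z * Z) * X * Z⁻¹ := by group
        _ = Z⁻¹ * X * Z⁻¹ := by rw [hZ.mul_self]
        _ = Z⁻¹ * X * (Z * Z) := by rw [hZ.mul_self]
        _ = (Z⁻¹ * X * Z) * Z := by group
        _ = (Z * X * Z⁻¹) * Z := by rw [← hX'', e, hX']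
        _ = _ := by group
    have hcom2 : X'' * X' = X' * X'' := by
      have e2 : X'' = Z * X' * Z⁻¹ := by
        rw [hX'', hX', show Z * (Z * X * Z⁻¹) * Z⁻¹ = (Z * Z) * X * (Z * Z)⁻¹ by group, hZ.mul_self, inv_inv]
      rw [e2]
      have := congrArg (fun g => Z * g * Z⁻¹) hC.symm
      simpa [hX', mul_assoc] using this
    obtain ⟨r, hr⟩ : ∃ r, r = S * X' := ⟨_, rfl⟩
    have hr2 : r ^ 2 = X'' * X' := by rw [pow_two, hr, ← hSX', ← mul_assoc]
    have hr4 : r ^ 4 = 1 := by
      rw [show 4 = 2 * 2 from rfl, pow_mul, hr2, pow_two, mul_assoc, ← mul_assoc X' X'', ← hcom2,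
        mul_assoc X'' X', hX'2, mul_one, hX''2]
    have hrne : r ^ 2 ≠ 1 := by
      rw [hr2]
      exact fun e => hne (eq_inv_of_mul_eq_one_left e ▸ inv_eq_of_mul_eq_one_right hX'2)
    have : Fact (Nat.Prime 2) := ⟨Nat.prime_two⟩
    have ho : orderOf r = 4 := orderOf_eq_prime_pow (p := 2) (n := 1) (by simpa using hrne) (by simpa using hr4)
    obtain ⟨hord, a, b, ha, hb, hab⟩ := hZ.good hbig
    rcases hord with h60 | h168
    · exact no_four h60 r ho
    · -- the core is trivial
      have h7 : Fact (Nat.Prime 7) := ⟨by norm_num⟩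
      have hP : ∀ P : Sylow 7 (K ⧸ M), Nat.card P = 7 := fun P => by
        rw [P.card_eq_multiplicity, h168, show (168 : ℕ) = 7 ^ 1 * 24 by norm_num,
          Nat.factorization_mul_apply_of_coprime (by norm_num), h7.out.factorization_pow,
          Finsupp.single_eq_same, Nat.factorization_eq_zero_of_not_dvd (by norm_num)]
        norm_num
      have hn : ¬ 3 ∣ Nat.card (Sylow 7 (K ⧸ M)) := by
        intro hd
        have h1 : Nat.card (Sylow 7 (K ⧸ M)) % 7 = 1 := card_sylow_modEq_one 7 (K ⧸ M)
        have h2 : Nat.card (Sylow 7 (K ⧸ M)) ∣ 24 := by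
          obtain ⟨P⟩ := (inferInstance : Nonempty (Sylow 7 (K ⧸ M)))
          have h3 := P.card_dvd_index
          have h4 := card_mul_index (P : Subgroup (K ⧸ M))
          rw [hP P, h168] at h4
          rwa [show (P : Subgroup (K ⧸ M)).index = 24 by omega] at h3
        have h3 := Nat.le_of_dvd (by norm_num) h2
        interval_cases Nat.card (Sylow 7 (K ⧸ M)) <;> omega
      have hZ3 : IsPGroup 3 (zpowers Z) := IsPGroup.of_card (n := 1) (by rw [Nat.card_zpowers, hZ.ord]; norm_num)
      have : Fact (Nat.Prime 3) := ⟨Nat.prime_three⟩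
      obtain ⟨P, hPfix⟩ := hZ3.nonempty_fixed_point_of_prime_not_dvd_card (Sylow 7 (K ⧸ M)) hn
      have hZP : ∀ p ∈ (P : Subgroup (K ⧸ M)), Z * p * Z⁻¹ ∈ (P : Subgroup (K ⧸ M)) := by
        intro p hp
        have h1 : Z • P = P := hPfix ⟨Z, mem_zpowers Z⟩
        have h2 := Subgroup.mem_normalizer_iff.1 (Sylow.smul_eq_iff_mem_normalizer.1 h1) p
        exact h2.1 hp
      have hPc : IsCyclic (P : Subgroup (K ⧸ M)) := isCyclic_of_prime_card (hP P)
      have hbot : M = ⊥ := hz.ext_trivial M h3 ha hb hab P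
        (fun e => by have := hP P; rw [e, card_bot] at this; omega)
        (fun p p' => hPc.isMulCommutative.is_comm.comm p p')
        (by rw [hP P]; decide) (by rw [hP P]; norm_num) hZP
      have hsimpK : IsSimpleGroup K := by
        subst hbot
        exact (QuotientGroup.quotientBot (G := K)).symm.isSimpleGroup
      have hbigK : 6 < Nat.card K := lt_of_lt_of_le hbig (Nat.card_le_card_of_surjective q (QuotientGroup.mk'_surjective M))
      obtain ⟨d, a', hA⟩ := hz.exists_arith hs hbigK
      have hx1 : x ≠ 1 := fun e => hX1 (by rw [hX, e, map_one])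
      obtain ⟨g, hg⟩ := isConj_iff.1 (hA.isConj x (orderOf_eq_prime (by rw [pow_two, hxx]) hx1)).symm
      exact hnc g hg

end CfsgLib.MTwelveAmalgam
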