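import Cfsg.Agent.Lib.Recognition.MTwelveAmalgam.Relations

/-! Words for the linear parts. -/

set_option autoImplicit false
set_option maxRecDepth 8000
set_option synthInstance.maxSize 2000

namespace CfsgLib.MTwelveAmalgam

/-- Words in the first half. -/
def wordsA : List (List ℕ) := [[], [4], [6], [7], [8], [4, 4], [4, 6], [4, 7], [4, 8], [6, 4], [6, 7], [6, 8], [7, 4], [7, 8], [8, 4], [4, 4, 8], [4, 6, 7], [4, 6, 8], [4, 7, 8], [4, 8, 4], [6, 4, 7], [6, 4, 8], [6, 7, 8], [6, 8, 4], [7, 4, 8], [7, 8, 4], [8, 4, 4], [8, 4, 6], [8, 4, 7], [8, 4, 8], [4, 4, 8, 4], [4, 6, 7, 8], [4, 7, 8, 4], [4, 8, 4, 4], [4, 8, 4, 6], [4, 8, 4, 7], [4, 8, 4, 8], [6, 4, 7, 8], [6, 7, 8, 4], [6, 8, 4, 6], [7, 4, 8, 4], [7, 8, 4, 8], [8, 4, 4, 8], [8, 4, 7, 8], [4, 4, 8, 4, 4], [4, 4, 8, 4, 7], [4, 6, 7, 8, 4], [4, 8, 4, 7, 8]]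

/-- Words in the second half. -/
def wordsB : List (List ℕ) := [[], [3], [6], [7], [9], [3, 3], [3, 6], [3, 7], [3, 9], [6, 7], [6, 9], [7, 3], [7, 9], [9, 3], [9, 7], [3, 3, 6], [3, 3, 9], [3, 6, 7], [3, 6, 9], [3, 7, 9], [3, 9, 3], [3, 9, 7], [6, 7, 3], [6, 9, 3], [7, 3, 9], [7, 9, 3], [9, 3, 3], [9, 3, 7], [9, 3, 9], [9, 7, 3], [3, 3, 6, 9], [3, 3, 9, 3], [3, 3, 9, 7], [3, 6, 9, 3], [3, 7, 9, 3], [3, 9, 3, 3], [3, 9, 3, 7], [3, 9, 3, 9], [6, 9, 3, 3], [6, 9, 3, 7], [7, 3, 9, 3], [7, 9, 3, 9], [9, 3, 3, 9], [9, 3, 7, 9], [3, 3, 9, 3, 3], [3, 3, 9, 3, 7], [3, 6, 9, 3, 7], [3, 9, 3, 7, 9]]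

theorem wordsA_lt : ∀ l ∈ wordsA, ∀ x ∈ l, x < 9 := by decide +kernel

theorem wordsB_lt : ∀ l ∈ wordsB, ∀ x ∈ l, x < 10 ∧ x ≠ 8 := by decide +kernel

theorem wordsA_cover : ∀ k : T, ok k → ∃ l ∈ wordsA, evP letA l = ((0, 0), k) := by decide +kernel

theorem wordsB_cover : ∀ k : T, ok k → ∃ l ∈ wordsB, evP letB l = ((0, 0), k) := by decide +kernel

theorem gen_model (k : T) (hk : ok k) : ∃ l, (∀ x ∈ l, x < 9) ∧ evP letA l = ((0, 0), k) :=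
  let ⟨l, hl, h⟩ := wordsA_cover k hk
  ⟨l, wordsA_lt l hl, h⟩

theorem gen_modelB (k : T) (hk : ok k) : ∃ l, (∀ x ∈ l, x < 10 ∧ x ≠ 8) ∧ evP letB l = ((0, 0), k) :=
  let ⟨l, hl, h⟩ := wordsB_cover k hk
  ⟨l, wordsB_lt l hl, h⟩

end CfsgLib.MTwelveAmalgam
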