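import Cfsg.Agent.Lib.Recognition.MTwelveAmalgam.Plane
import Cfsg.Agent.Lib.Presented.Word

/-!
# A group of shape `3^2 : GL(2,3)` with natural action, in coordinates

From a basis of the normal subgroup and an involution inverting it one obtains a bijective parametrisation
by affine maps which respects products.
-/

set_option autoImplicit false
set_option linter.unusedSectionVars false

namespace CfsgLib.MTwelveAmalgam

open Subgroup CfsgLib.Presented

/-- A subgroup of shape `3^2 : GL(2,3)` with a self-centralizing normal subgroup. -/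
structure Half {G : Type*} [Group G] (A Q : Subgroup G) : Prop where
  le : Q ≤ A
  normal : ∀ a ∈ A, ∀ x ∈ Q, a * x * a⁻¹ ∈ Q
  comm : ∀ x ∈ Q, ∀ y ∈ Q, x * y = y * x
  cube : ∀ x ∈ Q, x * x * x = 1
  card : Nat.card Q = 9
  self : ∀ a ∈ A, (∀ x ∈ Q, a * x = x * a) → a ∈ Q
  index : Nat.card A = 432

/-- The element with coordinates `v`. -/
def cv {G : Type*} [Group G] (e f : G) (v : V) : G := e ^ v.1.val * f ^ v.2.val

variable {G : Type*} [Group G]

theorem cv_zero (e f : G) : cv e f 0 = 1 := by simp [cv]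

theorem cv_e (e f : G) : cv e f (1, 0) = e := by
  simp [cv, show ((1 : ZMod 3)).val = 1 from rfl]

theorem cv_f (e f : G) : cv e f (0, 1) = f := by
  simp [cv, show ((1 : ZMod 3)).val = 1 from rfl]

theorem cv_add {e f : G} (hc : Commute e f) (he : e ^ 3 = 1) (hf : f ^ 3 = 1) (u v : V) :
    cv e f (u + v) = cv e f u * cv e f v := by
  have key : ∀ {z : G}, z ^ 3 = 1 → ∀ a b : ZMod 3, z ^ (a + b).val = z ^ a.val * z ^ b.val := by
    intro z hz a b
    rw [← pow_add, ZMod.val_add, pow_mod_of_pow_eq_one hz]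
  obtain ⟨a, b⟩ := u
  obtain ⟨a', b'⟩ := v
  simp only [cv, Prod.mk_add_mk, key he, key hf]
  rw [mul_assoc, mul_assoc, ← mul_assoc (e ^ a'.val) (f ^ b.val), ← mul_assoc (f ^ b.val) (e ^ a'.val),
    (hc.pow_pow a'.val b.val).eq]
where
  pow_mod_of_pow_eq_one {z : G} (hz : z ^ 3 = 1) {n : ℕ} : z ^ (n % 3) = z ^ n :=
    (pow_eq_pow_mod n hz).symm

/-- Coordinates on a half: the map `(v, g) ↦ cv v * φ g`. -/
structure Frame {G : Type*} [Group G] (A Q : Subgroup G) (e f i : G) (φ : T → G) : Prop where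
  e_mem : e ∈ Q
  f_mem : f ∈ Q
  hc : Commute e f
  he : e ^ 3 = 1
  hf : f ^ 3 = 1
  cv_inj : Function.Injective (cv e f)
  cv_surj : ∀ x ∈ Q, ∃ v, cv e f v = x
  φ_mem : ∀ g, ok g → φ g ∈ A
  φ_act : ∀ g, ok g → ∀ v, φ g * cv e f v * (φ g)⁻¹ = cv e f (tap g v)
  φ_mul : ∀ g h, ok g → ok h → φ (tmul g h) = φ g * φ h
  φ_inj : ∀ g h, ok g → ok h → φ g = φ h → g = h
  φ_neg : φ tneg = i
  spec : ∀ a ∈ A, a * i = i * a → ∀ g, a * e * a⁻¹ = cv e f (tap g (1, 0)) →
    a * f * a⁻¹ = cv e f (tap g (0, 1)) → ok g ∧ a = φ g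
  cover : ∀ a ∈ A, ∃ v g, ok g ∧ a = cv e f v * φ g

namespace Half

variable {A Q : Subgroup G} (H : Half A Q)
include H

theorem cube' {x : G} (hx : x ∈ Q) : x ^ 3 = 1 := by
  rw [pow_succ, pow_two]; exact H.cube x hx

theorem finiteA : Finite A := Nat.finite_of_card_ne_zero (by rw [H.index]; norm_num)

theorem finiteQ : Finite Q := Nat.finite_of_card_ne_zero (by rw [H.card]; norm_num)

theorem cv_mem {e f : G} (he : e ∈ Q) (hf : f ∈ Q) (v : V) : cv e f v ∈ Q :=
  mul_mem (pow_mem he _) (pow_mem hf _)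

/-- Two independent elements form a basis. -/
theorem basis {e f : G} (he : e ∈ Q) (hf : f ∈ Q) (he1 : e ≠ 1) (hfe : f ∉ zpowers e) :
    Function.Injective (cv e f) ∧ ∀ x ∈ Q, ∃ v, cv e f v = x := by
  have hc : Commute e f := H.comm e he f hf
  have := H.finiteQ
  have hinj : Function.Injective (cv e f) := by
    have hzero : ∀ v, cv e f v = 1 → v = 0 := by
      rintro ⟨a, b⟩ h
      have h' : e ^ a.val * f ^ b.val = 1 := h
      have hfb : f ^ b.val ∈ zpowers e := by
        rw [eq_inv_of_mul_eq_one_right h']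
        exact inv_mem (pow_mem (mem_zpowers e) _)
      have hb : b = 0 := by
        rcases (show ∀ x : ZMod 3, x = 0 ∨ x = 1 ∨ x = 2 by decide) b with rfl | rfl | rfl
        · rfl
        · exact absurd (by simpa [show ((1 : ZMod 3)).val = 1 from rfl] using hfb) hfe
        · refine absurd ?_ hfe
          have h2 : f ^ 2 ∈ zpowers e := by simpa [show ((2 : ZMod 3)).val = 2 from rfl] using hfb
          have : f = (f ^ 2)⁻¹ := eq_inv_of_mul_eq_one_left (by rw [← pow_succ']; exact H.cube' hf)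
          rw [this]; exact inv_mem h2
      subst hb
      rcases (show ∀ x : ZMod 3, x = 0 ∨ x = 1 ∨ x = 2 by decide) a with rfl | rfl | rfl
      · rfl
      · exact absurd (by simpa [show ((1 : ZMod 3)).val = 1 from rfl] using h') he1
      · refine absurd ?_ he1
        have h2 : e ^ 2 = 1 := by simpa [show ((2 : ZMod 3)).val = 2 from rfl] using h'
        have := H.cube' he
        rwa [pow_succ, h2, one_mul] at this
    intro u v huv
    have h1 := cv_add hc (H.cube' he) (H.cube' hf) (u - v) v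
    rw [sub_add_cancel, huv] at h1
    exact sub_eq_zero.1 (hzero _ (mul_eq_right.1 h1.symm))
  refine ⟨hinj, fun x hx => ?_⟩
  let g : V → Q := fun v => ⟨cv e f v, H.cv_mem he hf v⟩
  have hg : Function.Bijective g := by
    refine (Nat.bijective_iff_injective_and_card g).2 ⟨fun a b h => hinj (congrArg Subtype.val h), ?_⟩
    rw [H.card]; simp
  obtain ⟨v, hv⟩ := hg.2 ⟨x, hx⟩
  exact ⟨v, congrArg Subtype.val hv⟩

/-- Conjugation as a matrix. -/
theorem exists_mat {e f : G} (he : e ∈ Q) (hf : f ∈ Q) (hi : Function.Injective (cv e f))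
    (hs : ∀ x ∈ Q, ∃ v, cv e f v = x) {a : G} (ha : a ∈ A) :
    ∃ g, ok g ∧ ∀ v, a * cv e f v * a⁻¹ = cv e f (tap g v) := by
  obtain ⟨⟨p, r⟩, h1⟩ := hs _ (H.normal a ha e he)
  obtain ⟨⟨q, s⟩, h2⟩ := hs _ (H.normal a ha f hf)
  have hc : Commute e f := H.comm e he f hf
  have hadd := cv_add hc (H.cube' he) (H.cube' hf)
  have hnat : ∀ (w : V) (n : ℕ), cv e f w ^ n = cv e f (n • w) := by
    intro w n
    induction n with
    | zero => rw [pow_zero, zero_smul, cv_zero]
    | succ n ih => rw [pow_succ, ih, succ_nsmul, hadd]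
  have hact : ∀ v, a * cv e f v * a⁻¹ = cv e f (tap (p, q, r, s) v) := by
    rintro ⟨x, y⟩
    have e1 : a * cv e f (x, y) * a⁻¹ = (a * e * a⁻¹) ^ x.val * (a * f * a⁻¹) ^ y.val := by
      rw [conj_pow, conj_pow]; simp only [cv]; group
    rw [e1, ← h1, ← h2, hnat, hnat, ← hadd]
    congr 1
    simp only [tap, Prod.smul_mk, nsmul_eq_mul, ZMod.natCast_zmod_val, Prod.mk_add_mk, Prod.mk.injEq]
    constructor <;> ring
  refine ⟨_, ok_of_injective _ fun v hv => hi ?_, hact⟩
  have h := hact v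
  rw [hv, cv_zero] at h
  rw [cv_zero, show cv e f v = a⁻¹ * (a * cv e f v * a⁻¹) * a by group, h]
  group

/-- The coordinates attached to a basis and an involution inverting `Q`. -/
theorem exists_frame {e f i : G} (he : e ∈ Q) (hf : f ∈ Q) (he1 : e ≠ 1) (hfe : f ∉ zpowers e)
    (hiA : i ∈ A) (hii : i * i = 1) (hinv : ∀ x ∈ Q, i * x * i⁻¹ = x⁻¹) : ∃ φ, Frame A Q e f i φ := by
  classical
  obtain ⟨hinj, hsurj⟩ := H.basis he hf he1 hfe
  have hc : Commute e f := H.comm e he f hf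
  have hadd := cv_add hc (H.cube' he) (H.cube' hf)
  have hext : ∀ a b, a ∈ A → b ∈ A → (∀ v, a * cv e f v * a⁻¹ = b * cv e f v * b⁻¹) → b⁻¹ * a ∈ Q := by
    intro a b ha hb h
    refine H.self _ (mul_mem (inv_mem hb) ha) fun x hx => ?_
    obtain ⟨v, rfl⟩ := hsurj x hx
    rw [← mul_inv_eq_iff_eq_mul]
    calc b⁻¹ * a * cv e f v * (b⁻¹ * a)⁻¹ = b⁻¹ * (a * cv e f v * a⁻¹) * b := by group
      _ = _ := by rw [h v]; group
  have hneg : ∀ v, i * cv e f v * i⁻¹ = cv e f (tap tneg v) := by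
    intro v
    rw [hinv _ (H.cv_mem he hf v), tap_tneg]
    exact (eq_inv_of_mul_eq_one_left (by rw [← hadd, neg_add_cancel, cv_zero])).symm
  -- a lift commuting with `i` is unique
  have huniq : ∀ a b, a ∈ A → b ∈ A → a * i = i * a → b * i = i * b →
      (∀ v, a * cv e f v * a⁻¹ = b * cv e f v * b⁻¹) → a = b := by
    intro a b ha hb hai hbi h
    have hx := hext a b ha hb h
    have hxi : (b⁻¹ * a) * i = i * (b⁻¹ * a) := by
      calc b⁻¹ * a * i = b⁻¹ * (a * i) := by group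
        _ = b⁻¹ * (i * b) * b⁻¹ * a := by rw [hai]; group
        _ = b⁻¹ * (b * i) * b⁻¹ * a := by rw [hbi]
        _ = _ := by group
    have h2 := hinv _ hx
    rw [← hxi, mul_inv_cancel_right] at h2
    have h3 := H.cube _ hx
    nth_rewrite 3 [h2] at h3
    rw [mul_inv_cancel_right] at h3
    exact (inv_mul_eq_one.1 h3).symm
  have hlift : ∀ a ∈ A, ∃ q ∈ Q, q * a * i = i * (q * a) := by
    intro a ha
    obtain ⟨g, -, hg⟩ := H.exists_mat he hf hinj hsurj ha
    have hr : (a⁻¹ * i * a * i⁻¹) ∈ Q := by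
      have : (i⁻¹)⁻¹ * (a⁻¹ * i * a) ∈ Q := by
        refine hext _ _ (mul_mem (mul_mem (inv_mem ha) hiA) ha) (inv_mem hiA) fun v => ?_
        have e1 : a⁻¹ * i * a * cv e f v * (a⁻¹ * i * a)⁻¹ = a⁻¹ * (i * (a * cv e f v * a⁻¹) * i⁻¹) * a := by
          group
        rw [e1, hg, hinv _ (H.cv_mem he hf _), ← hg, show i⁻¹ = i from inv_eq_of_mul_eq_one_right hii]
        rw [show i * cv e f v * i⁻¹ = (cv e f v)⁻¹ from hinv _ (H.cv_mem he hf v)]
        group
      have := H.normal i hiA _ this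
      have e2 : i * ((i⁻¹)⁻¹ * (a⁻¹ * i * a)) * i⁻¹ = a⁻¹ * i * a * i⁻¹ := by
        rw [inv_inv, ← mul_assoc i i, hii, one_mul]
      rwa [e2] at this
    -- move to the left of `a`
    obtain ⟨r, hrQ, hri⟩ : ∃ r ∈ Q, i * a = r * a * i :=
      ⟨a * (a⁻¹ * i * a * i⁻¹) * a⁻¹, H.normal a ha _ hr, by group⟩
    refine ⟨r * r, mul_mem hrQ hrQ, ?_⟩
    have h1 : i * (r * r) = (r * r)⁻¹ * i := mul_inv_eq_iff_eq_mul.1 (hinv _ (mul_mem hrQ hrQ))
    have h4 : (r * r)⁻¹ * r = r * r := by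
      rw [inv_mul_eq_iff_eq_mul, show r * r * (r * r) = r * r * r * r by group, H.cube r hrQ, one_mul]
    calc r * r * a * i = (r * r)⁻¹ * r * a * i := by rw [h4]
      _ = (r * r)⁻¹ * (i * a) := by rw [hri]; group
      _ = ((r * r)⁻¹ * i) * a := by group
      _ = (i * (r * r)) * a := by rw [h1]
      _ = i * (r * r * a) := mul_assoc _ _ _
  -- the lifts
  let ρ : A → {g : T // ok g} := fun a =>
    ⟨(H.exists_mat he hf hinj hsurj a.2).choose, (H.exists_mat he hf hinj hsurj a.2).choose_spec.1⟩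
  have hρ : ∀ a : A, ∀ v, (a : G) * cv e f v * (a : G)⁻¹ = cv e f (tap (ρ a).1 v) := fun a =>
    (H.exists_mat he hf hinj hsurj a.2).choose_spec.2
  have hsur : Function.Surjective ρ := by
    have := H.finiteA
    have := H.finiteQ
    let S := {a : A // (a : G) * i = i * (a : G)}
    let σ : S → {g : T // ok g} := fun a => ρ a.1
    let π : Q × S → A := fun p => ⟨(p.1 : G) * p.2.1, mul_mem (H.le p.1.2) p.2.1.2⟩
    have hπ : Function.Surjective π := by
      intro a
      obtain ⟨q, hq, hqa⟩ := hlift a a.2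
      exact ⟨(⟨q⁻¹, inv_mem hq⟩, ⟨⟨q * a, mul_mem (H.le hq) a.2⟩, hqa⟩),
        Subtype.ext (inv_mul_cancel_left q (a : G))⟩
    have hσ : Function.Injective σ := fun a b h => Subtype.ext (Subtype.ext
      (huniq _ _ a.1.2 b.1.2 a.2 b.2 fun v => by
        rw [hρ a.1, hρ b.1, show (ρ a.1).1 = (ρ b.1).1 from congrArg Subtype.val h]))
    have h1 := Nat.card_le_card_of_surjective π hπ
    rw [Nat.card_prod, H.card, H.index] at h1
    have hb : Function.Bijective σ := by
      refine (Nat.bijective_iff_injective_and_card σ).2 ⟨hσ, le_antisymm ?_ ?_⟩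
      · exact Nat.card_le_card_of_injective σ hσ
      · rw [card_ok]; omega
    intro g
    obtain ⟨a, ha⟩ := hb.2 g
    exact ⟨a.1, ha⟩
  have hex : ∀ g, ok g → ∃ a ∈ A, a * i = i * a ∧ ∀ v, a * cv e f v * a⁻¹ = cv e f (tap g v) := by
    intro g hg
    obtain ⟨a, ha⟩ := hsur ⟨g, hg⟩
    obtain ⟨q, hq, hqa⟩ := hlift a a.2
    refine ⟨q * a, mul_mem (H.le hq) a.2, hqa, fun v => ?_⟩
    have h0 := hρ a v
    rw [ha] at h0
    calc q * a * cv e f v * (q * a)⁻¹ = q * ((a : G) * cv e f v * (a : G)⁻¹) * q⁻¹ := by group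
      _ = _ := by rw [h0, H.comm q hq _ (H.cv_mem he hf _), mul_inv_cancel_right]
  let φ : T → G := fun g => if h : ok g then (hex g h).choose else 1
  have hφ : ∀ g (h : ok g), φ g ∈ A ∧ φ g * i = i * φ g ∧
      ∀ v, φ g * cv e f v * (φ g)⁻¹ = cv e f (tap g v) := fun g h => by
    simp only [φ, dif_pos h]; exact (hex g h).choose_spec
  refine ⟨φ, ⟨he, hf, hc, H.cube' he, H.cube' hf, hinj, hsurj, fun g h => (hφ g h).1,
    fun g h => (hφ g h).2.2, ?_, ?_, ?_, ?_, ?_⟩⟩
  · intro g h hg hh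
    obtain ⟨h1, h2, h3⟩ := hφ _ (ok_tmul g h hg hh)
    obtain ⟨g1, g2, g3⟩ := hφ g hg
    obtain ⟨k1, k2, k3⟩ := hφ h hh
    refine huniq _ _ h1 (mul_mem g1 k1) h2 ?_ fun v => ?_
    · rw [mul_assoc, k2, ← mul_assoc, g2, mul_assoc]
    · rw [h3, tap_tmul, ← g3, ← k3]; group
  · intro g h hg hh e'
    refine tap_ext (hinj ?_) (hinj ?_) <;> rw [← (hφ g hg).2.2, ← (hφ h hh).2.2, e']
  · obtain ⟨h1, h2, h3⟩ := hφ tneg (by decide +kernel)
    exact huniq _ _ h1 hiA h2 rfl fun v => by rw [h3, hneg]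
  · intro a ha hai g h1 h2
    obtain ⟨g', hg', hact⟩ := H.exists_mat he hf hinj hsurj ha
    have : g' = g := tap_ext (hinj (by rw [← hact, cv_e, h1])) (hinj (by rw [← hact, cv_f, h2]))
    subst this
    exact ⟨hg', huniq _ _ ha (hφ g' hg').1 hai (hφ g' hg').2.1 fun v => by rw [hact, (hφ g' hg').2.2]⟩
  · intro a ha
    obtain ⟨q, hq, hqa⟩ := hlift a ha
    obtain ⟨g, hg, hact⟩ := H.exists_mat he hf hinj hsurj (mul_mem (H.le hq) ha)
    obtain ⟨v, hv⟩ := hsurj q⁻¹ (inv_mem hq)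
    refine ⟨v, g, hg, ?_⟩
    have := huniq _ _ (mul_mem (H.le hq) ha) (hφ g hg).1 hqa (hφ g hg).2.1
      (fun v => by rw [hact, (hφ g hg).2.2])
    rw [hv, ← this, inv_mul_cancel_left]

end Half

/-- The value of an affine map. -/
def ψ (e f : G) (φ : T → G) (p : Aff) : G := cv e f p.1 * φ p.2

namespace Frame

variable {A Q : Subgroup G} {e f i : G} {φ : T → G} (F : Frame A Q e f i φ)
include F

theorem φ_one : φ tone = 1 := by
  have h := F.φ_mul tone tone (by decide +kernel) (by decide +kernel)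
  rw [show tmul tone tone = tone by decide +kernel] at h
  exact mul_eq_right.1 h.symm

theorem ψ_mul (p q : Aff) (hp : ok p.2) (hq : ok q.2) :
    ψ e f φ (amul p q) = ψ e f φ p * ψ e f φ q := by
  obtain ⟨v, g⟩ := p
  obtain ⟨v', g'⟩ := q
  show cv e f (v + tap g v') * φ (tmul g g') = cv e f v * φ g * (cv e f v' * φ g')
  rw [cv_add F.hc F.he F.hf, F.φ_mul g g' hp hq, ← F.φ_act g hp v']
  group

theorem ψ_one : ψ e f φ (0, tone) = 1 := by
  show cv e f 0 * φ tone = 1
  rw [cv_zero, F.φ_one, one_mul]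

theorem ψ_evP (L : ℕ → Aff) (hL : ∀ x, ok (L x).2) (w : List ℕ) :
    evW (fun x => ψ e f φ (L x)) w = ψ e f φ (evP L w) := by
  induction w with
  | nil => rw [evW_nil, evP, F.ψ_one]
  | cons x w ih => rw [evW_cons, ih, evP, F.ψ_mul _ _ (hL x) (evP_ok L hL w)]

theorem ψ_inj (hQ : Half A Q) (p q : Aff) (hp : ok p.2) (hq : ok q.2)
    (h : ψ e f φ p = ψ e f φ q) : p = q := by
  obtain ⟨v, g⟩ := p
  obtain ⟨v', g'⟩ := q
  have h' : cv e f v * φ g = cv e f v' * φ g' := h
  have hg : g = g' := by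
    have key : ∀ (u : V) (k : T), ok k → ∀ x, cv e f u * φ k * cv e f x * (cv e f u * φ k)⁻¹ = cv e f (tap k x) := by
      intro u k hk x
      calc cv e f u * φ k * cv e f x * (cv e f u * φ k)⁻¹
          = cv e f u * (φ k * cv e f x * (φ k)⁻¹) * (cv e f u)⁻¹ := by group
        _ = _ := by
          rw [F.φ_act k hk, hQ.comm _ (hQ.cv_mem F.e_mem F.f_mem u) _ (hQ.cv_mem F.e_mem F.f_mem _),
            mul_inv_cancel_right]
    refine tap_ext (F.cv_inj ?_) (F.cv_inj ?_) <;> rw [← key v g hp, ← key v' g' hq, h']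
  subst hg
  rw [F.cv_inj (mul_right_cancel h')]

end Frame

end CfsgLib.MTwelveAmalgam
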