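import Cfsg.Agent.Lib.Recognition.MTwelveAmalgam.Plane
import Cfsg.Agent.Lib.Presented.Word

/-!
# The letters and relators of the completion

The letters `0, ..., 9` are `e, e⁻¹, f, f⁻¹, u, u⁻¹, a, b, w, v`.
-/

set_option autoImplicit false

namespace CfsgLib.MTwelveAmalgam

open CfsgLib.Presented

variable {W : Type*} [Group W]

/-- The values of the letters. -/
def ev7 (e f u a b w v : W) : ℕ → W := fun n => [e, e⁻¹, f, f⁻¹, u, u⁻¹, a, b, w, v].getD n 1

theorem ev7_map {W' : Type*} [Group W'] (φ : W →* W') (e f u a b w v : W) (n : ℕ) :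
    φ (ev7 e f u a b w v n) = ev7 (φ e) (φ f) (φ u) (φ a) (φ b) (φ w) (φ v) n := by
  rcases n with _ | _ | _ | _ | _ | _ | _ | _ | _ | _ | n <;> simp [ev7]

/-- The relators of the first half. -/
def relA : List (List ℕ) :=
  [[0, 0, 0], [2, 2, 2], [0, 2, 1, 3], [4, 4, 4], [6, 6], [7, 7], [8, 8], [6, 7, 6, 7], [8, 6, 8, 7],
    [4, 0, 5, 1], [4, 2, 5, 1, 3], [6, 0, 6, 0], [6, 2, 6, 3], [7, 0, 7, 1], [7, 2, 7, 2], [6, 4, 6, 4],
    [7, 4, 7, 4], [8, 0, 8, 3], [8, 4, 8, 5, 7, 8, 5]]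

/-- The relators of the second half. -/
def relB : List (List ℕ) :=
  [[0, 0, 0], [4, 4, 4], [0, 4, 1, 5], [3, 3, 3], [6, 7, 6, 7], [7, 7], [9, 9], [6, 7, 7, 6, 7, 7],
    [9, 6, 7, 9, 7], [3, 0, 2, 1], [3, 4, 2, 1, 5], [6, 7, 0, 6, 7, 0], [6, 7, 4, 6, 7, 5], [7, 0, 7, 1],
    [7, 4, 7, 4], [6, 7, 3, 6, 7, 3], [7, 3, 7, 3], [9, 0, 9, 5], [9, 3, 9, 2, 7, 9, 2]]

/-- The word `(x y e)^3`, with `x = v w a v` and `y = w v a b w`. -/
def keyWord : List ℕ :=
  [9, 8, 6, 9, 8, 9, 6, 7, 8, 0] ++ [9, 8, 6, 9, 8, 9, 6, 7, 8, 0] ++ [9, 8, 6, 9, 8, 9, 6, 7, 8, 0]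

/-- The relators in the case where the product is trivial. -/
def relOne : List (List ℕ) := relA ++ relB ++ [keyWord]

/-- The relators in the other case. -/
def relTwo : List (List ℕ) := relA ++ relB ++ [keyWord ++ [7]]

/-- The places of the letters in the first half. -/
def letA : ℕ → Aff := fun n =>
  [((1, 0), tone), ((2, 0), tone), ((0, 1), tone), ((0, 2), tone), ((0, 0), tU), ((0, 0), tmul tU tU),
    ((0, 0), tA), ((0, 0), tB), ((0, 0), tswap)].getD n ((0, 0), tone)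

/-- The places of the letters in the second half. -/
def letB : ℕ → Aff := fun n =>
  [((1, 0), tone), ((2, 0), tone), ((0, 0), tmul tU tU), ((0, 0), tU), ((0, 1), tone), ((0, 2), tone),
    ((0, 0), tneg), ((0, 0), tB), ((0, 0), tone), ((0, 0), tswap)].getD n ((0, 0), tone)

theorem relA_model : ∀ l ∈ relA, (∀ x ∈ l, x < 9) ∧ evP letA l = (0, tone) := by decide +kernel

theorem relB_model : ∀ l ∈ relB, (∀ x ∈ l, x < 10 ∧ x ≠ 8) ∧ evP letB l = (0, tone) := by decide +kernel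

theorem evW_congr {f g : ℕ → W} : ∀ {l : List ℕ}, (∀ x ∈ l, f x = g x) → evW f l = evW g l
  | [], _ => rfl
  | x :: l, h => by
    rw [evW_cons, evW_cons, h x List.mem_cons_self, evW_congr fun y hy => h y (List.mem_cons_of_mem _ hy)]

end CfsgLib.MTwelveAmalgam
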