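import Cfsg.Agent.Lib.Recognition.MTwelveAmalgam.Setup
import Cfsg.Agent.Lib.Recognition.MTwelveAmalgam.Relations
import Cfsg.Agent.Lib.Recognition.MTwelveAmalgam.Core

/-!
# The relations of the completion

Besides the relations of the two halves the product `(x y e)^3` is a power of `b`, where `x` and `y` are
elements of order four with square `b`: modulo `⟨b⟩` the element `e` is self-centralizing in the centralizer
of `b`, and `x`, `y` lie in its `3'`-core.
-/

set_option autoImplicit false
set_option linter.unusedSectionVars false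

namespace CfsgLib.MTwelveAmalgam

open Subgroup CfsgLib.Presented CfsgLib.SelfThree29

set_option synthInstance.maxSize 2000 in
theorem cent_model : ∀ (v : V) (g : T), ok g →
    amul (v, g) ((1, 0), tone) = amul ((1, 0), tone) (v, g) →
    amul (v, g) ((0, 0), tB) = amul ((0, 0), tB) (v, g) → v.2 = 0 ∧ (g = tone ∨ g = tB) := by
  decide +kernel

universe u

variable {G : Type u} [Group G] {A B QA QB S : Subgroup G} {e f u a : G} {φ χ : T → G}

theorem Gens.hA (h : Gens A B QA QB e f u a φ χ) (x : ℕ) (hx : x < 9) :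
    ev7 e f u a (φ tB) (φ tswap) (χ tswap) x = ψ e f φ (letA x) := by
  obtain ⟨i, F⟩ := h.fA
  have ψg : ∀ g, ψ e f φ ((0, 0), g) = φ g := fun g => by
    show cv e f 0 * φ g = φ g
    rw [cv_zero, one_mul]
  have ψv : ∀ v, ψ e f φ (v, tone) = cv e f v := fun v => by
    show cv e f v * φ tone = _
    rw [F.φ_one, mul_one]
  have h2 : ∀ {z : G}, z ^ 3 = 1 → z⁻¹ = z ^ 2 := fun {z} hz =>
    inv_eq_of_mul_eq_one_right (by rw [← pow_succ']; exact hz)
  have hu : φ tU ^ 3 = 1 := by
    rw [← (F.φ_pow (show ok tU by decide +kernel) 3).2, show tpow tU 3 = tone by decide +kernel, F.φ_one]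
  interval_cases x <;> simp only [ev7, letA, List.getD_cons_zero, List.getD_cons_succ, ψg, ψv]
  · rw [cv_e]
  · rw [h2 F.he]; simp [cv, show ((2 : ZMod 3)).val = 2 from rfl]
  · rw [cv_f]
  · rw [h2 F.hf]; simp [cv, show ((2 : ZMod 3)).val = 2 from rfl]
  · exact h.u_eq.symm
  · rw [← h.u_eq, h2 hu, pow_two, F.φ_mul _ _ (by decide +kernel) (by decide +kernel)]
  · exact h.a_eq.symm

theorem Gens.hB (h : Gens A B QA QB e f u a φ χ) (x : ℕ) (hx : x < 10) (hx8 : x ≠ 8) :
    ev7 e f u a (φ tB) (φ tswap) (χ tswap) x = ψ e u χ (letB x) := by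
  have F := h.fB
  have ψg : ∀ g, ψ e u χ ((0, 0), g) = χ g := fun g => by
    show cv e u 0 * χ g = χ g
    rw [cv_zero, one_mul]
  have ψv : ∀ v, ψ e u χ (v, tone) = cv e u v := fun v => by
    show cv e u v * χ tone = _
    rw [F.φ_one, mul_one]
  have h2 : ∀ {z : G}, z ^ 3 = 1 → z⁻¹ = z ^ 2 := fun {z} hz =>
    inv_eq_of_mul_eq_one_right (by rw [← pow_succ']; exact hz)
  have hu : χ tU ^ 3 = 1 := by
    rw [← (F.φ_pow (show ok tU by decide +kernel) 3).2, show tpow tU 3 = tone by decide +kernel, F.φ_one]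
  interval_cases x <;> simp only [ev7, letB, List.getD_cons_zero, List.getD_cons_succ, ψg, ψv]
  · rw [cv_e]
  · rw [h2 F.he]; simp [cv, show ((2 : ZMod 3)).val = 2 from rfl]
  · rw [← inv_inv f, ← h.tU_eq, h2 hu, pow_two, F.φ_mul _ _ (by decide +kernel) (by decide +kernel)]
  · exact h.tU_eq.symm
  · rw [cv_f]
  · rw [h2 F.hf]; simp [cv, show ((2 : ZMod 3)).val = 2 from rfl]
  · exact F.φ_neg.symm
  · exact h.tB_eq.symm
  · exact absurd rfl hx8

theorem okA_let : ∀ x, ok (letA x).2 := fun x => by
  rcases x with _ | _ | _ | _ | _ | _ | _ | _ | _ | n <;>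
    simp only [letA, List.getD_cons_zero, List.getD_cons_succ, List.getD_nil] <;> decide +kernel

theorem okB_let : ∀ x, ok (letB x).2 := fun x => by
  rcases x with _ | _ | _ | _ | _ | _ | _ | _ | _ | _ | n <;>
    simp only [letB, List.getD_cons_zero, List.getD_cons_succ, List.getD_nil] <;> decide +kernel

/-- Words in the letters of the first half with equal places have equal values. -/
theorem Gens.eqA (h : Gens A B QA QB e f u a φ χ) (l m : List ℕ) (hl : ∀ x ∈ l, x < 9) (hm : ∀ x ∈ m, x < 9)
    (he : evP letA l = evP letA m) : evW (ev7 e f u a (φ tB) (φ tswap) (χ tswap)) l =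
      evW (ev7 e f u a (φ tB) (φ tswap) (χ tswap)) m := by
  obtain ⟨i, F⟩ := h.fA
  rw [evW_congr fun x hx => h.hA x (hl x hx), evW_congr fun x hx => h.hA x (hm x hx),
    F.ψ_evP _ okA_let, F.ψ_evP _ okA_let, he]

/-- Words in the letters of the second half with equal places have equal values. -/
theorem Gens.eqB (h : Gens A B QA QB e f u a φ χ) (l m : List ℕ) (hl : ∀ x ∈ l, x < 10 ∧ x ≠ 8)
    (hm : ∀ x ∈ m, x < 10 ∧ x ≠ 8)
    (he : evP letB l = evP letB m) : evW (ev7 e f u a (φ tB) (φ tswap) (χ tswap)) l =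
      evW (ev7 e f u a (φ tB) (φ tswap) (χ tswap)) m := by
  have F := h.fB
  rw [evW_congr fun x hx => h.hB x (hl x hx).1 (hl x hx).2, evW_congr fun x hx => h.hB x (hm x hx).1 (hm x hx).2,
    F.ψ_evP _ okB_let, F.ψ_evP _ okB_let, he]

/-- The relations of the completion. -/
theorem Gens.rels [Finite G] (h : Gens A B QA QB e f u a φ χ) (hA : Half A QA) :
    (∀ l ∈ relOne, evW (ev7 e f u a (φ tB) (φ tswap) (χ tswap)) l = 1) ∨
      (∀ l ∈ relTwo, evW (ev7 e f u a (φ tB) (φ tswap) (χ tswap)) l = 1) := by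
  classical
  set b := φ tB with hbdef
  set w := φ tswap with hwdef
  set v := χ tswap with hvdef
  set E := ev7 e f u a b w v with hE
  have hbase : ∀ l ∈ relA ++ relB, evW E l = 1 := by
    intro l hl
    rcases List.mem_append.1 hl with hl | hl
    · obtain ⟨h1, h2⟩ := relA_model l hl
      exact (h.eqA l [] h1 (by simp) h2).trans (evW_nil _)
    · obtain ⟨h1, h2⟩ := relB_model l hl
      exact (h.eqB l [] h1 (by simp) h2).trans (evW_nil _)
  suffices hk : evW E keyWord = 1 ∨ evW E keyWord = b by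
    rcases hk with hk | hk
    · left
      intro l hl
      rcases List.mem_append.1 hl with hl | hl
      · exact hbase l hl
      · rw [List.mem_singleton.1 hl, hk]
    · right
      intro l hl
      rcases List.mem_append.1 hl with hl | hl
      · exact hbase l hl
      · rw [List.mem_singleton.1 hl, evW_append, hk]
        simpa [E, ev7] using hbase [7, 7] (by decide)
  -- facts from the halves
  have fA : ∀ l m : List ℕ, (∀ x ∈ l, x < 9) → (∀ x ∈ m, x < 9) → evP letA l = evP letA m → evW E l = evW E m :=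
    h.eqA
  have fB : ∀ l m : List ℕ, (∀ x ∈ l, x < 10 ∧ x ≠ 8) → (∀ x ∈ m, x < 10 ∧ x ≠ 8) →
      evP letB l = evP letB m → evW E l = evW E m := h.eqB
  have qq : w * a * (w * a) = a * b := by
    simpa [E, ev7, mul_assoc] using fA [8, 6, 8, 6] [6, 7] (by decide) (by decide) (by decide +kernel)
  have aw : a * w = w * b := by
    simpa [E, ev7] using fA [6, 8] [8, 7] (by decide) (by decide) (by decide +kernel)
  have wa' : w * a * w = b := by
    simpa [E, ev7, mul_assoc] using fA [8, 6, 8] [7] (by decide) (by decide) (by decide +kernel)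
  have aa : a * a = 1 := by simpa [E, ev7] using fA [6, 6] [] (by decide) (by decide) (by decide +kernel)
  have bb : b * b = 1 := by simpa [E, ev7] using fA [7, 7] [] (by decide) (by decide) (by decide +kernel)
  have ww : w * w = 1 := by simpa [E, ev7] using fA [8, 8] [] (by decide) (by decide) (by decide +kernel)
  have ab : a * b = b * a := by simpa [E, ev7] using fA [6, 7] [7, 6] (by decide) (by decide) (by decide +kernel)
  have be : b * e = e * b := by simpa [E, ev7] using fA [7, 0] [0, 7] (by decide) (by decide) (by decide +kernel)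
  have eee : e * e * e = 1 := by
    simpa [E, ev7, mul_assoc] using fA [0, 0, 0] [] (by decide) (by decide) (by decide +kernel)
  have aea : a * e * a = e⁻¹ := by
    simpa [E, ev7, mul_assoc] using fA [6, 0, 6] [1] (by decide) (by decide) (by decide +kernel)
  have vv : v * v = 1 := by simpa [E, ev7] using fB [9, 9] [] (by decide) (by decide) (by decide +kernel)
  have av : a * v = v * a := by simpa [E, ev7] using fB [6, 9] [9, 6] (by decide) (by decide) (by decide +kernel)
  have bv : b * v = v * (a * b) := by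
    simpa [E, ev7] using fB [7, 9] [9, 6, 7] (by decide) (by decide) (by decide +kernel)
  have vabv : v * (a * b) * v = b := by
    simpa [E, ev7, mul_assoc] using fB [9, 6, 7, 9] [7] (by decide) (by decide) (by decide +kernel)
  have vabvab : v * (a * b) * (v * (a * b)) = a := by
    simpa [E, ev7, mul_assoc] using fB [9, 6, 7, 9, 6, 7] [6] (by decide) (by decide) (by decide +kernel)
  have ev : e * v = v * u := by simpa [E, ev7] using fB [0, 9] [9, 4] (by decide) (by decide) (by decide +kernel)
  have ew : e * w = w * f := by simpa [E, ev7] using fA [0, 8] [8, 2] (by decide) (by decide) (by decide +kernel)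
  have qcomm : w * a * (u * (w * a) * u⁻¹) = u * (w * a) * u⁻¹ * (w * a) * (a * b) := by
    simpa [E, ev7, mul_assoc] using fA [8, 6, 4, 8, 6, 5] [4, 8, 6, 5, 8, 6, 6, 7] (by decide) (by decide)
      (by decide +kernel)
  have qcommB : v * (a * b) * (f * (v * (a * b)) * f⁻¹) = f * (v * (a * b)) * f⁻¹ * (v * (a * b)) * a := by
    simpa [E, ev7, mul_assoc] using fB [9, 6, 7, 2, 9, 6, 7, 3] [2, 9, 6, 7, 3, 9, 6, 7, 6] (by decide) (by decide)
      (by decide +kernel)
  set x := v * (w * a) * v with hx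
  set y := w * (v * (a * b)) * w with hy
  have hxx : x * x = b := by
    calc x * x = v * (w * a) * (v * v) * (w * a) * v := by rw [hx]; group
      _ = v * (w * a * (w * a)) * v := by rw [vv]; group
      _ = b := by rw [qq, vabv]
  have hyy : y * y = b := by
    calc y * y = w * (v * (a * b)) * (w * w) * (v * (a * b)) * w := by rw [hy]; group
      _ = w * (v * (a * b) * (v * (a * b))) * w := by rw [ww]; group
      _ = b := by rw [vabvab, wa']
  have hxa : a * x * a = x * b := by
    calc a * x * a = (a * v) * (w * a) * (v * a) := by rw [hx]; group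
      _ = v * a * (w * a) * (a * v) := congrArg₂ (fun p q => p * (w * a) * q) av av.symm
      _ = v * (a * w) * (a * a) * v := by group
      _ = v * (w * b) * v := by rw [aw, aa, mul_one]
      _ = v * (w * (a * (a * b))) * v := by rw [← mul_assoc a a, aa, one_mul]
      _ = v * (w * a) * (a * b * v) := by group
      _ = v * (w * a) * (v * b) := by
          rw [show a * b * v = v * b from by
            calc a * b * v = (v * v) * (a * b) * v := by rw [vv, one_mul]
              _ = v * (v * (a * b) * v) := by group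
              _ = _ := by rw [vabv]]
      _ = x * b := by rw [hx]; group
  have hya : a * y * a = y * b := by
    have hwa : w * a = b * w := by
      calc w * a = w * a * (w * w) := by rw [ww, mul_one]
        _ = w * a * w * w := by group
        _ = _ := by rw [wa']
    calc a * y * a = (a * w) * (v * (a * b)) * (w * a) := by rw [hy]; group
      _ = w * (b * v) * ((a * b) * b) * w := by rw [aw, hwa]; group
      _ = w * (v * (a * b)) * a * w := by rw [bv, mul_assoc a b b, bb, mul_one]
      _ = w * (v * (a * b)) * (w * w) * a * w := by rw [ww]; group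
      _ = w * (v * (a * b)) * w * (w * a * w) := by group
      _ = y * b := by rw [wa']
  have hxc : x * (e * x * e⁻¹) = e * x * e⁻¹ * x * b := by
    have e1 : e * x * e⁻¹ = v * (u * (w * a) * u⁻¹) * v := by
      have e2 : v * e⁻¹ = u⁻¹ * v := by
        calc v * e⁻¹ = (e * v)⁻¹ * (v * v) := by rw [vv, mul_one, mul_inv_rev, inv_eq_of_mul_eq_one_right vv]
          _ = u⁻¹ * v⁻¹ * (v * v) := by rw [ev, mul_inv_rev]
          _ = _ := by group
      calc e * x * e⁻¹ = (e * v) * (w * a) * (v * e⁻¹) := by rw [hx]; group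
        _ = _ := by rw [ev, e2]; group
    rw [e1, hx]
    calc v * (w * a) * v * (v * (u * (w * a) * u⁻¹) * v)
        = v * (w * a) * (v * v) * (u * (w * a) * u⁻¹) * v := by group
      _ = v * (w * a * (u * (w * a) * u⁻¹)) * v := by rw [vv]; group
      _ = v * (u * (w * a) * u⁻¹ * (w * a) * (a * b)) * v := by rw [qcomm]
      _ = v * (u * (w * a) * u⁻¹) * (v * v) * (w * a) * (v * v) * (a * b) * v := by rw [vv]; group
      _ = v * (u * (w * a) * u⁻¹) * v * (v * (w * a) * v) * (v * (a * b) * v) := by group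
      _ = _ := by rw [vabv]
  have hyc : y * (e * y * e⁻¹) = e * y * e⁻¹ * y * b := by
    have e1 : e * y * e⁻¹ = w * (f * (v * (a * b)) * f⁻¹) * w := by
      have e2 : w * e⁻¹ = f⁻¹ * w := by
        calc w * e⁻¹ = (e * w)⁻¹ * (w * w) := by rw [ww, mul_one, mul_inv_rev, inv_eq_of_mul_eq_one_right ww]
          _ = f⁻¹ * w⁻¹ * (w * w) := by rw [ew, mul_inv_rev]
          _ = _ := by group
      calc e * y * e⁻¹ = (e * w) * (v * (a * b)) * (w * e⁻¹) := by rw [hy]; group
        _ = _ := by rw [ew, e2]; group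
    rw [e1, hy]
    calc w * (v * (a * b)) * w * (w * (f * (v * (a * b)) * f⁻¹) * w)
        = w * (v * (a * b)) * (w * w) * (f * (v * (a * b)) * f⁻¹) * w := by group
      _ = w * (v * (a * b) * (f * (v * (a * b)) * f⁻¹)) * w := by rw [ww]; group
      _ = w * (f * (v * (a * b)) * f⁻¹ * (v * (a * b)) * a) * w := by rw [qcommB]
      _ = w * (f * (v * (a * b)) * f⁻¹) * (w * w) * (v * (a * b)) * (w * w) * a * w := by rw [ww]; group
      _ = w * (f * (v * (a * b)) * f⁻¹) * w * (w * (v * (a * b)) * w) * (w * a * w) := by group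
      _ = _ := by rw [wa']
  have hkey : evW E keyWord = x * y * e * (x * y * e) * (x * y * e) := by
    have hb10 : evW E [9, 8, 6, 9, 8, 9, 6, 7, 8, 0] = x * y * e := by
      simp [E, ev7, hx, hy, mul_assoc]
    rw [keyWord, evW_append, evW_append, hb10]
  rw [hkey]
  -- the centralizer of `b` modulo `⟨b⟩`
  obtain ⟨i, F⟩ := h.fA
  have he1 : e ≠ 1 := fun e1 => by
    have := F.cv_inj (a₁ := (1, 0)) (a₂ := 0) (by rw [cv_e, cv_zero, e1])
    exact absurd this (by decide)
  have hb1 : b ≠ 1 := fun e1 => by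
    have := F.φ_inj tB tone (by decide +kernel) (by decide +kernel) (by rw [F.φ_one, ← hbdef, e1])
    exact absurd this (by decide +kernel)
  set C := centralizer ({b} : Set G) with hC
  have hmem : ∀ {g : G}, b * g = g * b → g ∈ C := fun hg => mem_centralizer_singleton_iff.2 hg.symm
  let bC : C := ⟨b, hmem rfl⟩
  have hbc : ∀ g : C, g * bC = bC * g := fun g => Subtype.ext (mem_centralizer_singleton_iff.1 g.2)
  let N : Subgroup C := zpowers bC
  have hNn : N.Normal := ⟨fun n hn g => by
    obtain ⟨k, rfl⟩ := hn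
    have hk : Commute g (bC ^ k) := Commute.zpow_right (hbc g) k
    rw [hk.eq, mul_inv_cancel_right]; exact ⟨k, rfl⟩⟩
  have hNmem : ∀ g : C, g ∈ N → (g : G) = 1 ∨ (g : G) = b := by
    rintro g ⟨k, rfl⟩
    rcases Int.even_or_odd k with ⟨j, rfl⟩ | ⟨j, rfl⟩
    · left
      show ((bC : G)) ^ (j + j) = 1
      rw [zpow_add, ← (Commute.refl b).mul_zpow, bb, one_zpow]
    · right
      show ((bC : G)) ^ (2 * j + 1) = b
      rw [zpow_add, zpow_one, two_mul, zpow_add, ← (Commute.refl b).mul_zpow, bb, one_zpow, one_mul]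
  let π : C →* C ⧸ N := QuotientGroup.mk' N
  have hπ1 : ∀ g : C, π g = 1 ↔ (g : G) = 1 ∨ (g : G) = b := fun g => by
    refine ⟨fun hg => hNmem g ((QuotientGroup.eq_one_iff g).1 hg), fun hg => (QuotientGroup.eq_one_iff g).2 ?_⟩
    rcases hg with hg | hg
    · rw [show g = 1 from Subtype.ext hg]; exact one_mem N
    · rw [show g = bC from Subtype.ext hg]; exact mem_zpowers bC
  let eC : C := ⟨e, hmem be⟩
  let aC : C := ⟨a, hmem ab.symm⟩
  let xC : C := ⟨x, hmem (by rw [← hxx, mul_assoc])⟩
  let yC : C := ⟨y, hmem (by rw [← hyy, mul_assoc])⟩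
  have hz : SC3 (π eC) := by
    refine ⟨?_, ?_⟩
    · have : Fact (Nat.Prime 3) := ⟨Nat.prime_three⟩
      refine orderOf_eq_prime ?_ fun e1 => ?_
      · rw [← map_pow, hπ1]
        left
        show e ^ 3 = 1
        rw [pow_succ, pow_two, eee]
      · rcases (hπ1 eC).1 e1 with e2 | e2
        · exact he1 e2
        · have e3 : e = b := e2
          rw [e3, bb, one_mul] at eee
          exact hb1 eee
    · intro g
      induction g using QuotientGroup.induction_on with | _ g => ?_
      intro hg
      have hg' : π (g * eC * g⁻¹ * eC⁻¹) = 1 := by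
        rw [map_mul, map_mul, map_mul, map_inv, map_inv]
        show π g * π eC * (π g)⁻¹ * (π eC)⁻¹ = 1
        rw [show π g * π eC = π eC * π g from hg]; group
      have hge : (g : G) * e * (g : G)⁻¹ = e := by
        rcases (hπ1 _).1 hg' with e1 | e1
        · exact mul_inv_eq_one.1 e1
        · exfalso
          have e2 : (g : G) * e * (g : G)⁻¹ = b * e := mul_inv_eq_iff_eq_mul.1 e1
          have e3 : ((g : G) * e * (g : G)⁻¹) * ((g : G) * e * (g : G)⁻¹) * ((g : G) * e * (g : G)⁻¹) = 1 := by
            rw [show ((g : G) * e * (g : G)⁻¹) * ((g : G) * e * (g : G)⁻¹) * ((g : G) * e * (g : G)⁻¹) =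
              (g : G) * (e * e * e) * (g : G)⁻¹ by group, eee]; group
          rw [e2, show b * e * (b * e) * (b * e) = b * (e * b) * e * (b * e) by group, ← be,
            show b * (b * e) * e * (b * e) = (b * b) * e * (e * b) * e by group, ← be, bb,
            show (1 : G) * e * (b * e) * e = (e * b) * e * e by group, ← be,
            show b * e * e * e = b * (e * e * e) by group, eee, mul_one] at e3
          exact hb1 e3
      obtain ⟨v', g', hg'ok, hgv⟩ := F.cover g (h.cent g hge)
      have ψb : ψ e f φ ((0, 0), tB) = b := by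
        show cv e f 0 * φ tB = b
        rw [cv_zero, one_mul]
      have ψe : ψ e f φ ((1, 0), tone) = e := by
        show cv e f (1, 0) * φ tone = e
        rw [F.φ_one, mul_one, cv_e]
      have hgψ : (g : G) = ψ e f φ (v', g') := hgv
      have ok1 : ok tone := by decide +kernel
      have okB : ok tB := by decide +kernel
      obtain ⟨hv2, hg2⟩ := cent_model v' g' hg'ok
        (F.ψ_inj hA _ _ (ok_amul _ _ hg'ok ok1) (ok_amul _ _ ok1 hg'ok) (by
          rw [F.ψ_mul (v', g') ((1, 0), tone) hg'ok ok1, F.ψ_mul ((1, 0), tone) (v', g') ok1 hg'ok, ψe, ← hgψ]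
          exact mul_inv_eq_iff_eq_mul.1 hge))
        (F.ψ_inj hA _ _ (ok_amul _ _ hg'ok okB) (ok_amul _ _ okB hg'ok) (by
          rw [F.ψ_mul (v', g') ((0, 0), tB) hg'ok okB, F.ψ_mul ((0, 0), tB) (v', g') okB hg'ok, ψb, ← hgψ]
          exact mem_centralizer_singleton_iff.1 g.2))
      obtain ⟨p, q⟩ := v'
      have hq : q = 0 := hv2
      subst hq
      refine ⟨(p.val : ℤ), ?_⟩
      show π eC ^ ((p.val : ℤ)) = π g
      rw [zpow_natCast, ← map_pow, ← mul_inv_eq_one, ← map_inv, ← map_mul, hπ1]
      show e ^ p.val * (g : G)⁻¹ = 1 ∨ e ^ p.val * (g : G)⁻¹ = b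
      rw [hgψ]
      show e ^ p.val * (cv e f (p, 0) * φ g')⁻¹ = 1 ∨ e ^ p.val * (cv e f (p, 0) * φ g')⁻¹ = b
      have hcv : cv e f (p, 0) = e ^ p.val := by simp [cv]
      rw [hcv]
      rcases hg2 with rfl | rfl
      · left; rw [F.φ_one, mul_one, mul_inv_cancel]
      · right
        have hbc' : Commute (e ^ p.val) b := Commute.pow_left be.symm _
        rw [hbc'.eq, mul_inv_rev, ← mul_assoc, mul_inv_cancel, one_mul]
        exact inv_eq_of_mul_eq_one_right bb
  obtain ⟨M, hMn, h3, hred⟩ := exists_core (π eC)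
  have hinv : π aC * π eC * (π aC)⁻¹ = (π eC)⁻¹ := by
    rw [← map_inv, ← map_mul, ← map_mul, ← map_inv]
    refine congrArg π (Subtype.ext ?_)
    show a * e * a⁻¹ = e⁻¹
    rw [show a⁻¹ = a from inv_eq_of_mul_eq_one_right aa, aea]
  have haC : π aC * π aC = 1 := by rw [← map_mul, hπ1]; exact Or.inl aa
  have key : ∀ (p : G) (hp : p ∈ C), p * p = b → a * p * a = p * b →
      p * (e * p * e⁻¹) = e * p * e⁻¹ * p * b → π ⟨p, hp⟩ ∈ M := by
    intro p hp hpp hpa hpc
    have hpb : π bC = 1 := (hπ1 bC).2 (Or.inr rfl)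
    refine mem_core hz hinv h3 hred ?_ ?_ ?_ ?_
    · rw [← map_mul, hπ1]; exact Or.inr hpp
    · rw [← map_inv, ← map_mul, ← map_mul]
      rw [show aC * ⟨p, hp⟩ * aC⁻¹ = ⟨p, hp⟩ * bC from Subtype.ext (by
        show a * p * a⁻¹ = p * b
        rw [show a⁻¹ = a from inv_eq_of_mul_eq_one_right aa, hpa]), map_mul, hpb, mul_one]
    · rw [← map_inv, ← map_mul, ← map_mul, ← map_mul, ← map_mul,
        show ⟨p, hp⟩ * (eC * ⟨p, hp⟩ * eC⁻¹) = eC * ⟨p, hp⟩ * eC⁻¹ * ⟨p, hp⟩ * bC from Subtype.ext hpc,
        map_mul, hpb, mul_one]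
    · intro g
      induction g using QuotientGroup.induction_on with | _ g => ?_
      intro hg
      have h1 : π (g * ⟨p, hp⟩ * g⁻¹ * aC⁻¹) = 1 := by
        rw [map_mul, map_mul, map_mul, map_inv, map_inv, mul_inv_eq_one]
        exact hg
      have hgp : (g : G) * p * (g : G)⁻¹ * ((g : G) * p * (g : G)⁻¹) = b := by
        rw [show (g : G) * p * (g : G)⁻¹ * ((g : G) * p * (g : G)⁻¹) = (g : G) * (p * p) * (g : G)⁻¹ by group, hpp,
          mem_centralizer_singleton_iff.1 g.2, mul_inv_cancel_right]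
      rcases (hπ1 _).1 h1 with e1 | e1
      · have e2 : (g : G) * p * (g : G)⁻¹ = a := mul_inv_eq_one.1 e1
        rw [e2, aa] at hgp
        exact hb1 hgp.symm
      · have e2 : (g : G) * p * (g : G)⁻¹ = b * a := mul_inv_eq_iff_eq_mul.1 e1
        rw [e2, mul_assoc, ← mul_assoc a b a, ab, mul_assoc b a a, aa, mul_one, bb] at hgp
        exact hb1 hgp.symm
  have hM : π (xC * yC) ∈ M := by
    rw [map_mul]; exact mul_mem (key x xC.2 hxx hxa hxc) (key y yC.2 hyy hya hyc)
  have hconj : (π eC)⁻¹ * (π (xC * yC) * π eC) ∈ M := by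
    simpa [mul_assoc] using hMn.conj_mem _ hM (π eC)⁻¹
  obtain ⟨n, -, hn⟩ := hz.exists_conj_eq M h3 hconj
  have h3' : π (xC * yC * eC * (xC * yC * eC) * (xC * yC * eC)) = 1 := by
    rw [map_mul, map_mul, show π (xC * yC * eC) = π (xC * yC) * π eC from map_mul π _ _, ← hn,
      show n * π eC * n⁻¹ * (n * π eC * n⁻¹) * (n * π eC * n⁻¹) = n * (π eC * π eC * π eC) * n⁻¹ by group,
      show π eC * π eC * π eC = 1 by rw [← map_mul, ← map_mul, hπ1]; exact Or.inl eee]
    group
  exact (hπ1 _).1 h3'

end CfsgLib.MTwelveAmalgam
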