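import Cfsg.Agent.Lib.Recognition.MTwelveAmalgam.Bound
import Cfsg.Agent.Lib.SLThreePresent.Target
import Cfsg.Agent.Lib.Recog.CommutingGraphPSLThreeThree

/-! Seven matrices satisfying the relations of the first case. -/
set_option autoImplicit false
set_option maxRecDepth 16000

namespace CfsgLib.MTwelveAmalgam

open CfsgLib.Presented CfsgLib.SLThreePresent

local notation "SL3" => Matrix.SpecialLinearGroup (Fin 3) (ZMod 3)

/-- one of the seven matrices -/
def mE : SL3 :=
  ⟨!![1, 0, 1; 0, 1, 0; 0, 0, 1], by simp [Matrix.det_fin_three] <;> decide⟩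

/-- one of the seven matrices -/
def mF : SL3 :=
  ⟨!![1, 0, 0; 0, 1, 1; 0, 0, 1], by simp [Matrix.det_fin_three] <;> decide⟩

/-- one of the seven matrices -/
def mU3 : SL3 :=
  ⟨!![1, 1, 0; 0, 1, 0; 0, 0, 1], by simp [Matrix.det_fin_three] <;> decide⟩

/-- one of the seven matrices -/
def mA : SL3 :=
  ⟨!![1, 0, 0; 0, 2, 0; 0, 0, 2], by simp [Matrix.det_fin_three] <;> decide⟩

/-- one of the seven matrices -/
def mB : SL3 :=
  ⟨!![2, 0, 0; 0, 1, 0; 0, 0, 2], by simp [Matrix.det_fin_three] <;> decide⟩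

/-- one of the seven matrices -/
def mW3 : SL3 :=
  ⟨!![0, 2, 0; 2, 0, 0; 0, 0, 2], by simp [Matrix.det_fin_three] <;> decide⟩

/-- one of the seven matrices -/
def mV : SL3 :=
  ⟨!![2, 0, 0; 0, 0, 2; 0, 2, 0], by simp [Matrix.det_fin_three] <;> decide⟩

/-- The letters. -/
def slEv : ℕ → SL3 := ev7 mE mF mU3 mA mB mW3 mV

theorem sl_rels : ∀ r ∈ relOne, evW slEv r = 1 := by decide +kernel

theorem sl_words : evW slEv [4] = x12 (1 : ZMod 3) ∧ evW slEv [7, 8] = wm ∧ evW slEv [8, 9] = cm := by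
  decide +kernel

theorem sl_closure : Subgroup.closure ({mE, mF, mU3, mA, mB, mW3, mV} : Set SL3) = ⊤ := by
  have h : ∀ l : List ℕ, evW slEv l ∈ Subgroup.closure ({mE, mF, mU3, mA, mB, mW3, mV} : Set SL3) := by
    intro l
    refine list_prod_mem fun y hy => ?_
    obtain ⟨n, -, rfl⟩ := List.mem_map.1 hy
    rcases n with _ | _ | _ | _ | _ | _ | _ | _ | _ | _ | n
    all_goals
      simp only [slEv, ev7, List.getD_cons_zero, List.getD_cons_succ, List.getD_nil]
      first
        | exact one_mem _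
        | (apply inv_mem; apply Subgroup.subset_closure; simp; done)
        | (apply Subgroup.subset_closure; simp)
  obtain ⟨h1, h2, h3⟩ := sl_words
  refine sl3_eq_top (fun t => ?_) (h2 ▸ h _) (h3 ▸ h _)
  have := pow_mem (h1 ▸ h _ : x12 (1 : ZMod 3) ∈ _) t.val
  rwa [x12_pow, ZMod.natCast_zmod_val, mul_one] at this

end CfsgLib.MTwelveAmalgam
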