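import Cfsg.Agent.Lib.Recognition.MTwelveAmalgam.Bound
import Cfsg.Agent.Lib.MathieuTwelve.Model

/-! Seven permutations of degree twenty-four satisfying the relations of the second case. -/
set_option autoImplicit false
set_option maxRecDepth 16000
set_option synthInstance.maxSize 2000

namespace CfsgLib.MTwelveAmalgam

open Cfsg CfsgLib.Golay CfsgLib.Presented CfsgLib.Schur.GolaySearch CfsgLib.Schur.GolayOut CfsgLib.Schur.OutM12

/-- one of the seven permutations -/
def pE : Equiv.Perm GolayPt :=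
  ⟨imgFun [1,8,2,4,18,10,12,7,0,9,21,15,16,13,23,20,6,17,3,14,11,5,22,19], imgFun [8,0,2,18,3,21,16,7,1,9,5,20,6,13,19,11,12,17,4,23,15,10,22,14], by decide +kernel, by decide +kernel⟩

/-- one of the seven permutations -/
def pF : Equiv.Perm GolayPt :=
  ⟨imgFun [0,1,9,18,3,14,12,7,8,13,23,10,16,2,20,21,6,17,4,15,5,19,22,11], imgFun [0,1,13,4,18,20,16,7,8,2,11,23,6,9,5,19,12,17,3,21,14,15,22,10], by decide +kernel, by decide +kernel⟩

/-- one of the seven permutations -/
def pU : Equiv.Perm GolayPt :=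
  ⟨imgFun [4,18,2,6,12,10,8,22,3,9,21,11,0,13,19,15,1,7,16,23,20,5,17,14], imgFun [12,16,2,8,0,21,3,17,6,9,5,11,4,13,23,15,18,22,1,14,20,10,7,19], by decide +kernel, by decide +kernel⟩

/-- one of the seven permutations -/
def pA : Equiv.Perm GolayPt :=
  ⟨imgFun [8,1,2,12,6,5,4,17,0,9,21,15,3,13,14,11,18,7,16,23,20,10,22,19], imgFun [8,1,2,12,6,5,4,17,0,9,21,15,3,13,14,11,18,7,16,23,20,10,22,19], by decide +kernel, by decide +kernel⟩

/-- one of the seven permutations -/
def pB : Equiv.Perm GolayPt :=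
  ⟨imgFun [0,1,9,6,12,14,3,17,8,2,23,11,4,13,5,15,18,7,16,21,20,19,22,10], imgFun [0,1,9,6,12,14,3,17,8,2,23,11,4,13,5,15,18,7,16,21,20,19,22,10], by decide +kernel, by decide +kernel⟩

/-- one of the seven permutations -/
def pW : Equiv.Perm GolayPt :=
  ⟨imgFun [9,13,8,4,3,11,6,17,2,0,10,5,12,1,15,14,16,7,18,19,20,23,22,21], imgFun [9,13,8,4,3,11,6,17,2,0,10,5,12,1,15,14,16,7,18,19,20,23,22,21], by decide +kernel, by decide +kernel⟩

/-- one of the seven permutations -/
def pV : Equiv.Perm GolayPt :=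
  ⟨imgFun [16,1,9,3,6,5,4,15,18,2,10,17,12,13,14,7,0,11,8,23,22,21,20,19], imgFun [16,1,9,3,6,5,4,15,18,2,10,17,12,13,14,7,0,11,8,23,22,21,20,19], by decide +kernel, by decide +kernel⟩

/-- The letters. -/
def mtwEv : ℕ → Equiv.Perm GolayPt := ev7 pE pF pU pA pB pW pV

theorem mtw_rels : ∀ r ∈ relTwo, evW mtwEv r = 1 := by decide +kernel

theorem mtw_words : evW mtwEv [2, 8, 9, 8, 5, 9, 8, 9, 2] = MathieuTwelve.pz ∧
    evW mtwEv [3, 8, 9, 8, 5, 9, 8, 9] = MathieuTwelve.pa ∧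
    evW mtwEv [1, 3, 9, 7, 8, 9, 8, 9, 3, 4, 8, 4] = MathieuTwelve.pb ∧
    evW mtwEv [3, 6, 8, 9, 8, 5, 9, 8, 9] = MathieuTwelve.pc ∧
    evW mtwEv [2, 9, 7, 8, 4, 3, 9, 8, 9, 8, 9, 2] = MathieuTwelve.pd ∧
    evW mtwEv [6, 8, 9, 8, 4, 9, 8, 9, 3] = MathieuTwelve.pg := by
  decide +kernel

theorem mtw_side : ([pE, pF, pU, pA, pB, pW, pV].all fun σ => inG side12 (toList σ)) = true := by decide +kernel

theorem mtw_closure : Subgroup.closure {pE, pF, pU, pA, pB, pW, pV} = Cfsg.Spor.M12 := by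
  refine le_antisymm ((Subgroup.closure_le _).2 fun x hx => ?_) ?_
  · have h := List.all_eq_true.1 mtw_side x (by simpa using hx)
    simp only [inG, Bool.and_eq_true] at h
    show x ∈ Cfsg.Spor.M12
    rw [mem_M12_side, mem_M24_iff_isPres]
    exact h
  · rw [← MathieuTwelve.model_closure, Subgroup.closure_le]
    have h : ∀ l : List ℕ, evW mtwEv l ∈ Subgroup.closure ({pE, pF, pU, pA, pB, pW, pV} : Set (Equiv.Perm GolayPt)) := by
      intro l
      refine list_prod_mem fun y hy => ?_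
      obtain ⟨n, -, rfl⟩ := List.mem_map.1 hy
      rcases n with _ | _ | _ | _ | _ | _ | _ | _ | _ | _ | n
      all_goals
        simp only [mtwEv, ev7, List.getD_cons_zero, List.getD_cons_succ, List.getD_nil]
        first
          | exact one_mem _
          | (apply inv_mem; apply Subgroup.subset_closure; simp; done)
          | (apply Subgroup.subset_closure; simp)
    obtain ⟨h1, h2, h3, h4, h5, h6⟩ := mtw_words
    rintro x (rfl | rfl | rfl | rfl | rfl | rfl)
    exacts [h1 ▸ h _, h2 ▸ h _, h3 ▸ h _, h4 ▸ h _, h5 ▸ h _, h6 ▸ h _]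

end CfsgLib.MTwelveAmalgam
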