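import Cfsg.Agent.Lib.Recognition.MTwelveAmalgam.Key
import Cfsg.Agent.Lib.Recognition.MTwelveAmalgam.GenWords
import Cfsg.Agent.Lib.Recognition.MTwelveAmalgam.TargetM
import Cfsg.Agent.Lib.Recognition.MTwelveAmalgam.TargetL
import Cfsg.Agent.Lib.Golay.Mathieu
import Cfsg.Agent.Classical.SLBasic
import Cfsg.Prelude.Def_Spor_Mathieu
import Cfsg.Prelude.Def_Transfer

/-!
# The identification of `M₁₂` and `PSL(3,3)` from two groups of shape `3^2 : GL(2,3)`
-/

set_option autoImplicit false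
set_option linter.unusedSectionVars false
set_option linter.style.haveILetI false

namespace CfsgLib.MTwelveAmalgam

open Subgroup CfsgLib.Presented

local notation "cl" => Subgroup.closure

/-- A group generated by letters satisfying relations which bound the order by that of a simple group
generated by letters with the same relations is isomorphic to it. -/
theorem nonempty_equiv_of_bound {G Q : Type*} [Group G] [Group Q] [Nontrivial G] {R : Subgroup Q}
    [IsSimpleGroup R] [Finite R] (g : Fin 7 → G) (q : Fin 7 → Q)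
    (hg : cl (Set.range g) = ⊤) (hq : cl (Set.range q) = R)
    (hbound : Finite (cl (Set.range fun i => (g i, q i))) ∧
      Nat.card (cl (Set.range fun i => (g i, q i))) ≤ Nat.card R) : Nonempty (G ≃* R) := by
  obtain ⟨hfin, hle⟩ := hbound
  set Γ := cl (Set.range fun i => (g i, q i)) with hΓ
  let π₁ : Γ →* G := (MonoidHom.fst G Q).comp Γ.subtype
  have hsurj₁ : Function.Surjective π₁ := by
    rw [← MonoidHom.range_eq_top, MonoidHom.range_comp, range_subtype, hΓ, MonoidHom.map_closure, ← Set.range_comp]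
    exact hg
  have hmap : ∀ x : Γ, (x : G × Q).2 ∈ R := by
    intro x
    rw [← hq]
    have h : (MonoidHom.snd G Q) (x : G × Q) ∈ Γ.map (MonoidHom.snd G Q) := mem_map_of_mem _ x.2
    have e : Γ.map (MonoidHom.snd G Q) = cl (Set.range q) := by
      rw [hΓ, MonoidHom.map_closure, ← Set.range_comp]; rfl
    rw [e] at h
    exact h
  let π₂ : Γ →* R := ((MonoidHom.snd G Q).comp Γ.subtype).codRestrict R hmap
  have hsurj₂ : Function.Surjective π₂ := by
    rintro ⟨r, hr⟩
    have h : r ∈ Γ.map (MonoidHom.snd G Q) := by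
      rw [hΓ, MonoidHom.map_closure, ← Set.range_comp]; exact hq.symm ▸ hr
    obtain ⟨x, hx, rfl⟩ := h
    exact ⟨⟨x, hx⟩, rfl⟩
  have hbij : Function.Bijective π₂ := (Nat.bijective_iff_surjective_and_card π₂).2
    ⟨hsurj₂, le_antisymm hle (Nat.card_le_card_of_surjective π₂ hsurj₂)⟩
  let f : R →* G := π₁.comp (MulEquiv.ofBijective π₂ hbij).symm.toMonoidHom
  have hf : Function.Surjective f := hsurj₁.comp (MulEquiv.ofBijective π₂ hbij).symm.surjective
  rcases (MonoidHom.normal_ker f).eq_bot_or_eq_top with h | h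
  · exact ⟨(MulEquiv.ofBijective f ⟨(MonoidHom.ker_eq_bot_iff f).1 h, hf⟩).symm⟩
  · obtain ⟨y, hy⟩ := exists_ne (1 : G)
    obtain ⟨x, rfl⟩ := hf y
    exact absurd (MonoidHom.mem_ker.1 (h ▸ mem_top x : x ∈ f.ker)) hy

theorem ev7_pair {G Q : Type*} [Group G] [Group Q] (g : Fin 7 → G) (q : Fin 7 → Q) (l : List ℕ) :
    evW (ev7 (g 0, q 0) (g 1, q 1) (g 2, q 2) (g 3, q 3) (g 4, q 4) (g 5, q 5) (g 6, q 6)) l =
      (evW (ev7 (g 0) (g 1) (g 2) (g 3) (g 4) (g 5) (g 6)) l,
        evW (ev7 (q 0) (q 1) (q 2) (q 3) (q 4) (q 5) (q 6)) l) := by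
  induction l with
  | nil => rfl
  | cons x l ih =>
    simp only [evW_cons, ih]
    rcases x with _ | _ | _ | _ | _ | _ | _ | _ | _ | _ | x <;> simp [ev7]

theorem range_pair {α : Type*} (t : Fin 7 → α) : Set.range t = {t 0, t 1, t 2, t 3, t 4, t 5, t 6} := by
  ext x
  simp only [Set.mem_range, Set.mem_insert_iff, Set.mem_singleton_iff]
  constructor
  · rintro ⟨i, rfl⟩
    fin_cases i <;> simp
  · rintro (rfl | rfl | rfl | rfl | rfl | rfl | rfl) <;> exact ⟨_, rfl⟩

variable {G : Type*} [Group G] [Finite G] {A B QA QB S : Subgroup G}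

/-- The completion is `M₁₂` or `PSL(3,3)`. -/
theorem Pair.identify (D : Pair A B QA QB S) :
    Cfsg.Spor.IsoM12 G ∨ Nonempty (G ≃* Matrix.ProjectiveSpecialLinearGroup (Fin 3) (ZMod 3)) := by
  obtain ⟨e, f, u, a, φ, χ, h⟩ := D.exists_gens
  obtain ⟨i, F⟩ := h.fA
  have : Nontrivial G := by
    have h1 : 1 < Nat.card A := by rw [D.hA.index]; norm_num
    have : Nontrivial A := Finite.one_lt_card_iff_nontrivial.1 h1
    exact (Subtype.val_injective : Function.Injective (Subtype.val : A → G)).nontrivial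
  let g : Fin 7 → G := ![e, f, u, a, φ tB, φ tswap, χ tswap]
  have hg : cl (Set.range g) = ⊤ := by
    set H := cl (Set.range g) with hH
    have hmem : ∀ j, g j ∈ H := fun j => subset_closure ⟨j, rfl⟩
    have hev : ∀ x, ev7 e f u a (φ tB) (φ tswap) (χ tswap) x ∈ H := by
      intro x
      rcases x with _ | _ | _ | _ | _ | _ | _ | _ | _ | _ | x
      · exact hmem 0
      · exact inv_mem (hmem 0)
      · exact hmem 1
      · exact inv_mem (hmem 1)
      · exact hmem 2
      · exact inv_mem (hmem 2)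
      · exact hmem 3
      · exact hmem 4
      · exact hmem 5
      · exact hmem 6
      · exact one_mem H
    have hw : ∀ l, evW (ev7 e f u a (φ tB) (φ tswap) (χ tswap)) l ∈ H := fun l =>
      list_prod_mem fun y hy => by obtain ⟨n, -, rfl⟩ := List.mem_map.1 hy; exact hev n
    rw [eq_top_iff, ← D.gen, sup_le_iff]
    have ψg : ∀ {e' f' : G} {θ : T → G} (k : T), ψ e' f' θ ((0, 0), k) = θ k := fun k => by
      show cv _ _ 0 * _ = _
      rw [cv_zero, one_mul]
    constructor
    · intro x hx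
      obtain ⟨p, k, hk, rfl⟩ := F.cover x hx
      refine mul_mem (mul_mem (pow_mem (hmem 0) _) (pow_mem (hmem 1) _)) ?_
      obtain ⟨l, hl, hl'⟩ := gen_model k hk
      have := hw l
      rw [evW_congr fun y hy => h.hA y (hl y hy), F.ψ_evP _ okA_let, hl', ψg] at this
      exact this
    · intro x hx
      obtain ⟨p, k, hk, rfl⟩ := h.fB.cover x hx
      refine mul_mem (mul_mem (pow_mem (hmem 0) _) (pow_mem (hmem 2) _)) ?_
      obtain ⟨l, hl, hl'⟩ := gen_modelB k hk
      have := hw l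
      rw [evW_congr fun y hy => h.hB y (hl y hy).1 (hl y hy).2, h.fB.ψ_evP _ okB_let, hl', ψg] at this
      exact this
  rcases h.rels D.hA with hr | hr
  · right
    haveI : IsSimpleGroup (⊤ : Subgroup (Matrix.SpecialLinearGroup (Fin 3) (ZMod 3))) := by
      haveI : IsSimpleGroup (Matrix.ProjectiveSpecialLinearGroup (Fin 3) (ZMod 3)) :=
        Cfsg.Agent.Classical.psl_isSimpleGroup (by simp)
      exact (Subgroup.topEquiv.trans CfsgLib.Recog.CommutingGraph.PSLThreeThree.toSL.symm).isSimpleGroup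
    let q : Fin 7 → Matrix.SpecialLinearGroup (Fin 3) (ZMod 3) := ![mE, mF, mU3, mA, mB, mW3, mV]
    have hq : cl (Set.range q) = ⊤ := by rw [range_pair]; exact sl_closure
    have hcard : Nat.card (⊤ : Subgroup (Matrix.SpecialLinearGroup (Fin 3) (ZMod 3))) = 5616 := by
      rw [card_top, ← Nat.card_congr CfsgLib.Recog.CommutingGraph.PSLThreeThree.toSL.toEquiv,
        CfsgLib.Recog.CommutingGraph.PSLThreeThree.card_psl]
    have hb := card_le_one (W := G × Matrix.SpecialLinearGroup (Fin 3) (ZMod 3)) (e := (g 0, q 0))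
      (f := (g 1, q 1)) (u := (g 2, q 2)) (a := (g 3, q 3)) (b := (g 4, q 4)) (w := (g 5, q 5))
      (v := (g 6, q 6)) fun r hr' => by
        rw [ev7_pair]; exact Prod.ext (hr r hr') (sl_rels r hr')
    obtain ⟨E⟩ := nonempty_equiv_of_bound g q hg hq
      (by rw [range_pair, hcard]; exact hb)
    exact ⟨E.trans (Subgroup.topEquiv.trans CfsgLib.Recog.CommutingGraph.PSLThreeThree.toSL.symm)⟩
  · left
    haveI : IsSimpleGroup Cfsg.Spor.M12 := CfsgLib.Golay.isSimpleGroup_sporM12
    let q : Fin 7 → Equiv.Perm Cfsg.GolayPt := ![pE, pF, pU, pA, pB, pW, pV]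
    have hq : cl (Set.range q) = Cfsg.Spor.M12 := by rw [range_pair]; exact mtw_closure
    have hb := card_le_two (W := G × Equiv.Perm Cfsg.GolayPt) (e := (g 0, q 0))
      (f := (g 1, q 1)) (u := (g 2, q 2)) (a := (g 3, q 3)) (b := (g 4, q 4)) (w := (g 5, q 5))
      (v := (g 6, q 6)) fun r hr' => by
        rw [ev7_pair]; exact Prod.ext (hr r hr') (mtw_rels r hr')
    exact nonempty_equiv_of_bound g q hg hq (by rw [range_pair, CfsgLib.Golay.natCard_sporM12]; exact hb)

theorem card_gl : Nat.card (GL (Fin 2) (ZMod 3)) = 48 := by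
  rw [Matrix.card_GL_field]
  simp [Fin.prod_univ_two]

/-- The hypotheses of the statement give a half. -/
theorem half_of_hyp (A : Subgroup G) (eA : A ⧸ Cfsg.pCore 3 A ≃* GL (Fin 2) (ZMod 3))
    (hOA : IsMulCommutative (Cfsg.pCore 3 A) ∧ (∀ x ∈ Cfsg.pCore 3 A, x ^ 3 = 1) ∧
      Nat.card (Cfsg.pCore 3 A) = 9 ∧
      Subgroup.centralizer ((Cfsg.pCore 3 A : Subgroup A) : Set A) = Cfsg.pCore 3 A)
    [hn : (Cfsg.pCore 3 A).Normal] :
    Half A ((Cfsg.pCore 3 A).map A.subtype) := by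
  obtain ⟨hc, h3, hcard, hself⟩ := hOA
  refine ⟨map_subtype_le _, ?_, ?_, ?_, ?_, ?_, ?_⟩
  · rintro a ha _ ⟨x, hx, rfl⟩
    exact ⟨⟨a, ha⟩ * x * ⟨a, ha⟩⁻¹, hn.conj_mem x hx _, rfl⟩
  · rintro _ ⟨x, hx, rfl⟩ _ ⟨y, hy, rfl⟩
    exact congrArg (fun z : Cfsg.pCore 3 A => ((z : A) : G)) (hc.is_comm.comm ⟨x, hx⟩ ⟨y, hy⟩)
  · rintro _ ⟨x, hx, rfl⟩
    have := congrArg Subtype.val (h3 x hx)
    rw [pow_succ, pow_two] at this
    exact this
  · rw [card_map_of_injective A.subtype_injective, hcard]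
  · intro a ha h
    refine ⟨⟨a, ha⟩, ?_, rfl⟩
    show (⟨a, ha⟩ : A) ∈ Cfsg.pCore 3 A
    rw [← hself, mem_centralizer_iff]
    exact fun x hx => Subtype.ext (h x ⟨x, hx, rfl⟩).symm
  · rw [card_eq_card_quotient_mul_card_subgroup (Cfsg.pCore 3 A), Nat.card_congr eA.toEquiv, card_gl, hcard]

end CfsgLib.MTwelveAmalgam
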