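import Mathlib.GroupTheory.Sylow
import Mathlib.Data.ZMod.Basic
import Mathlib.Data.Fintype.Prod
import Mathlib.Tactic.Group
import Mathlib.Tactic.IntervalCases

/-!
# The affine group of the plane over `ZMod 3`, as pairs

A vector is a pair and a linear map a quadruple `(a, b, c, d)`, read as the matrix `!![a, b; c, d]`.
-/

set_option autoImplicit false

namespace CfsgLib.MTwelveAmalgam

/-- Vectors. -/
abbrev V : Type := ZMod 3 × ZMod 3

/-- Matrices. -/
abbrev T : Type := ZMod 3 × ZMod 3 × ZMod 3 × ZMod 3

/-- The product of two matrices. -/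
def tmul : T → T → T
  | (a, b, c, d), (a', b', c', d') => (a * a' + b * c', a * b' + b * d', c * a' + d * c', c * b' + d * d')

/-- The image of a vector. -/
def tap : T → V → V
  | (a, b, c, d), (x, y) => (a * x + b * y, c * x + d * y)

/-- The identity matrix. -/
def tone : T := (1, 0, 0, 1)

/-- The matrix `-1`. -/
def tneg : T := (2, 0, 0, 2)

/-- A swap of the coordinates. -/
def tswap : T := (0, 1, 1, 0)

/-- The transvection fixing the first basis vector. -/
def tU : T := (1, 1, 0, 1)

/-- The reflection inverting the first basis vector. -/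
def tA : T := (2, 0, 0, 1)

/-- The reflection inverting the second basis vector. -/
def tB : T := (1, 0, 0, 2)

/-- Invertibility. -/
def ok : T → Prop
  | (a, b, c, d) => a * d - b * c ≠ 0

instance : DecidablePred ok := fun g => by
  obtain ⟨a, b, c, d⟩ := g
  unfold ok
  infer_instance

/-- The pairs `(translation, linear part)`. -/
abbrev Aff : Type := V × T

/-- The product of affine maps. -/
def amul : Aff → Aff → Aff
  | (v, g), (v', g') => (v + tap g v', tmul g g')

/-- The value of a word. -/
def evP (L : ℕ → Aff) : List ℕ → Aff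
  | [] => (0, tone)
  | x :: w => amul (L x) (evP L w)

theorem tap_tmul : ∀ g h : T, ∀ v : V, tap (tmul g h) v = tap g (tap h v) := by decide +kernel

theorem tap_tone : ∀ v : V, tap tone v = v := by decide +kernel

theorem tap_add : ∀ g : T, ∀ v v' : V, tap g (v + v') = tap g v + tap g v' := by decide +kernel

theorem tap_tneg : ∀ v : V, tap tneg v = -v := by decide +kernel

theorem tap_ext {g h : T} (h1 : tap g (1, 0) = tap h (1, 0)) (h2 : tap g (0, 1) = tap h (0, 1)) : g = h := by
  obtain ⟨a, b, c, d⟩ := g
  obtain ⟨a', b', c', d'⟩ := h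
  simp only [tap, mul_one, mul_zero, add_zero, zero_add, Prod.mk.injEq] at h1 h2
  simp [h1.1, h1.2, h2.1, h2.2]

theorem ok_tmul : ∀ g h : T, ok g → ok h → ok (tmul g h) := by decide +kernel

theorem ok_of_injective : ∀ g : T, (∀ v : V, tap g v = 0 → v = 0) → ok g := by decide +kernel

theorem ok_amul (p q : Aff) (hp : ok p.2) (hq : ok q.2) : ok (amul p q).2 := by
  obtain ⟨v, g⟩ := p
  obtain ⟨v', g'⟩ := q
  exact ok_tmul g g' hp hq

theorem tmul_tneg : ∀ g : T, tmul g tneg = tmul tneg g := by decide +kernel

theorem card_ok : Nat.card {g : T // ok g} = 48 := by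
  rw [Nat.card_eq_fintype_card]; decide +kernel

theorem evP_ok (L : ℕ → Aff) (hL : ∀ x, ok (L x).2) : ∀ w, ok (evP L w).2
  | [] => show ok tone by decide +kernel
  | x :: w => ok_tmul _ _ (hL x) (evP_ok L hL w)

end CfsgLib.MTwelveAmalgam
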