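import Cfsg.Agent.Lib.Recognition.MTwelveAmalgam.Half
import Mathlib.Tactic.IntervalCases

/-!
# Two halves with a common Sylow 3-subgroup

The generators `e, f, u, a, b, w, v` of a group generated by two groups of shape `3^2 : GL(2,3)` meeting
in the normalizer of the centre of a common Sylow 3-subgroup.
-/

set_option autoImplicit false
set_option linter.unusedSectionVars false

namespace CfsgLib.MTwelveAmalgam

open Subgroup

variable {G : Type*} [Group G]

/-- The hypotheses. -/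
structure Pair {G : Type*} [Group G] (A B QA QB S : Subgroup G) : Prop where
  hA : Half A QA
  hB : Half B QB
  gen : A ⊔ B = ⊤
  core : ∀ N : Subgroup G, N ≤ A ⊓ B → (∀ a ∈ A, ∀ n ∈ N, a * n * a⁻¹ ∈ N) →
    (∀ b ∈ B, ∀ n ∈ N, b * n * b⁻¹ ∈ N) → N = ⊥
  hS : S ≤ A ⊓ B
  cardS : Nat.card S = 27
  norm : ∀ x : G, (∀ z ∈ S, (∀ y ∈ S, z * y = y * z) → x * z * x⁻¹ ∈ S ∧ ∀ y ∈ S, x * z * x⁻¹ * y = y * (x * z * x⁻¹)) →
    (∀ z ∈ S, (∀ y ∈ S, z * y = y * z) → x⁻¹ * z * x ∈ S ∧ ∀ y ∈ S, x⁻¹ * z * x * y = y * (x⁻¹ * z * x)) →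
    x ∈ A ⊓ B

/-- The generators of the completion and their places in the two halves. -/
structure Gens {G : Type*} [Group G] (A B QA QB : Subgroup G) (e f u a : G) (φ χ : T → G) : Prop where
  fA : ∃ i, Frame A QA e f i φ
  fB : Frame B QB e u a χ
  u_eq : φ tU = u
  a_eq : φ tA = a
  tA_eq : χ tA = φ tneg
  tB_eq : χ tB = φ tB
  tU_eq : χ tU = f⁻¹
  cent : ∀ x : G, x * e * x⁻¹ = e → x ∈ A

/-- Powers of a matrix. -/
def tpow (g : T) : ℕ → T
  | 0 => tone
  | n + 1 => tmul g (tpow g n)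

theorem three_elt : ∀ g : T, ok g → tpow g 27 = tone → g ≠ tone → ∃ x : V, tap g x - x ≠ 0 ∧
    tap g (tap g x - x) = tap g x - x ∧ x ≠ 0 ∧ x ≠ tap g x - x ∧ x ≠ -(tap g x - x) := by
  decide +kernel

theorem upper_only : ∀ g : T, ok g → tpow g 27 = tone → tpow (tmul g tU) 27 = tone →
    g = tone ∨ g = tU ∨ g = tmul tU tU := by
  decide +kernel

set_option synthInstance.maxSize 2000 in
theorem center_model : ∀ (m n : ZMod 3) (g : T), g = tone ∨ g = tU ∨ g = tmul tU tU →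
    amul ((m, n), g) ((0, 1), tone) = amul ((0, 1), tone) ((m, n), g) →
    amul ((m, n), g) ((0, 0), tU) = amul ((0, 0), tU) ((m, n), g) → n = 0 ∧ g = tone := by
  decide +kernel

theorem conj_model : ∀ (m n : ZMod 3) (g : T), g = tone ∨ g = tU ∨ g = tmul tU tU →
    ∃ k : ZMod 3, amul (amul (amul ((0, 0), tA) ((m, n), g)) ((0, 0), tA)) ((m, n), g) = ((k, n + n), tone) := by
  decide +kernel

namespace Half

variable {A Q : Subgroup G} (H : Half A Q)
include H

theorem pow27 {S : Subgroup G} (hS : Nat.card S = 27) {x : G} (hx : x ∈ S) : x ^ 27 = 1 := by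
  have := pow_card_eq_one' (x := (⟨x, hx⟩ : S))
  rw [hS] at this
  simpa using congrArg Subtype.val this

/-- The normal subgroup lies in every subgroup of order 27. -/
theorem le_of_card [Finite G] {S : Subgroup G} (hSA : S ≤ A) (hS : Nat.card S = 27) : Q ≤ S := by
  have : Fact (Nat.Prime 3) := ⟨Nat.prime_three⟩
  have hfac : Nat.card A = 3 ^ 3 * 16 := by rw [H.index]; norm_num
  have hN : (Q.subgroupOf A).Normal := ⟨fun x hx g => by
    rw [mem_subgroupOf] at hx ⊢
    simpa using H.normal g g.2 x hx⟩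
  let P : Sylow 3 A := Sylow.ofCard (S.subgroupOf A) (by
    rw [Nat.card_congr (subgroupOfEquivOfLe hSA).toEquiv, hS, H.index]
    rw [show (432 : ℕ) = 3 ^ 3 * 16 by norm_num,
      Nat.factorization_mul_apply_of_coprime (by norm_num), Nat.prime_three.factorization_pow,
      Finsupp.single_eq_same, Nat.factorization_eq_zero_of_not_dvd (by norm_num)]
    norm_num)
  have hQp : IsPGroup 3 (Q.subgroupOf A) := IsPGroup.of_card (n := 2) (by
    rw [Nat.card_congr (subgroupOfEquivOfLe H.le).toEquiv, H.card]; norm_num)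
  obtain ⟨R, hR⟩ := hQp.exists_le_sylow
  obtain ⟨g, hg⟩ := MulAction.exists_smul_eq A R P
  intro x hx
  have h1 : g⁻¹ * ⟨x, H.le hx⟩ * g ∈ Q.subgroupOf A := by
    simpa using hN.conj_mem ⟨x, H.le hx⟩ (mem_subgroupOf.2 hx) g⁻¹
  have h2 : (⟨x, H.le hx⟩ : A) ∈ (P : Subgroup A) := by
    rw [← hg, Sylow.coe_subgroup_smul, mem_pointwise_smul_iff_inv_smul_mem]
    simpa using hR h1
  exact h2

/-- Some element acts as `-1`. -/
theorem exists_neg {e f : G} (he : e ∈ Q) (hf : f ∈ Q) (he1 : e ≠ 1) (hfe : f ∉ zpowers e) :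
    ∃ i ∈ A, i * i = 1 ∧ ∀ x ∈ Q, i * x * i⁻¹ = x⁻¹ := by
  classical
  obtain ⟨hinj, hsurj⟩ := H.basis he hf he1 hfe
  let ρ : A → {g : T // ok g} := fun a =>
    ⟨(H.exists_mat he hf hinj hsurj a.2).choose, (H.exists_mat he hf hinj hsurj a.2).choose_spec.1⟩
  have hρ : ∀ a : A, ∀ v, (a : G) * cv e f v * (a : G)⁻¹ = cv e f (tap (ρ a).1 v) := fun a =>
    (H.exists_mat he hf hinj hsurj a.2).choose_spec.2
  have hsame : ∀ a b : A, ρ a = ρ b → (a : G) * (b : G)⁻¹ ∈ Q := by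
    intro a b hab
    have h1 : (b : G)⁻¹ * a ∈ Q := by
      refine H.self _ (mul_mem (inv_mem b.2) a.2) fun x hx => ?_
      obtain ⟨v, rfl⟩ := hsurj x hx
      rw [← mul_inv_eq_iff_eq_mul]
      calc (b : G)⁻¹ * a * cv e f v * ((b : G)⁻¹ * a)⁻¹ = (b : G)⁻¹ * (a * cv e f v * (a : G)⁻¹) * b := by group
        _ = _ := by rw [hρ a, hab, ← hρ b]; group
    have h2 := H.normal b b.2 _ h1
    simpa [mul_assoc] using h2
  have := H.finiteA
  have := H.finiteQ
  obtain ⟨a, ha⟩ : ∃ a, ρ a = ⟨tneg, by decide +kernel⟩ := by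
    by_contra hc
    let S := {g : {g : T // ok g} // g ≠ ⟨tneg, by decide +kernel⟩}
    let rep : S → A := fun g => if h : ∃ a, ρ a = g.1 then h.choose else 1
    let π : A → Q × S := fun a =>
      (⟨(a : G) * (rep ⟨ρ a, fun h => hc ⟨a, h⟩⟩ : G)⁻¹, hsame _ _ (by
        simp only [rep]; rw [dif_pos ⟨a, rfl⟩]; exact (Classical.choose_spec (⟨a, rfl⟩ : ∃ x, ρ x = ρ a)).symm)⟩,
        ⟨ρ a, fun h => hc ⟨a, h⟩⟩)
    have hπ : Function.Injective π := by
      intro a b hab
      have h2 : (⟨ρ a, fun h => hc ⟨a, h⟩⟩ : S) = ⟨ρ b, fun h => hc ⟨b, h⟩⟩ := congrArg Prod.snd hab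
      have h1 : (a : G) * (rep ⟨ρ a, fun h => hc ⟨a, h⟩⟩ : G)⁻¹ = b * (rep ⟨ρ b, fun h => hc ⟨b, h⟩⟩ : G)⁻¹ :=
        congrArg (fun p : Q × S => (p.1 : G)) hab
      rw [h2] at h1
      exact Subtype.ext (mul_right_cancel h1)
    have h := Nat.card_le_card_of_injective π hπ
    have hlt : Nat.card S < 48 := by
      rw [← card_ok]
      exact Finite.card_subtype_lt (fun h => h rfl)
    rw [Nat.card_prod, H.card, H.index] at h
    omega
  have hact : ∀ x ∈ Q, (a : G) * x * (a : G)⁻¹ = x⁻¹ := by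
    intro x hx
    obtain ⟨v, rfl⟩ := hsurj x hx
    rw [hρ a v, ha, tap_tneg]
    exact eq_inv_of_mul_eq_one_left (by
      rw [← cv_add (H.comm e he f hf) (H.cube' he) (H.cube' hf), neg_add_cancel, cv_zero])
  have hact2 : ∀ x ∈ Q, (a : G) * a * x = x * ((a : G) * a) := by
    intro x hx
    rw [← mul_inv_eq_iff_eq_mul]
    calc (a : G) * a * x * ((a : G) * a)⁻¹ = (a : G) * ((a : G) * x * (a : G)⁻¹) * (a : G)⁻¹ := by group
      _ = x := by rw [hact x hx, hact _ (inv_mem hx), inv_inv]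
  have hq : (a : G) * a ∈ Q := H.self _ (mul_mem a.2 a.2) hact2
  refine ⟨(a : G) * a * a, mul_mem (mul_mem a.2 a.2) a.2, ?_, fun x hx => ?_⟩
  · rw [show (a : G) * a * a * (a * a * a) = (a * a) * (a * a) * (a * a) by group]
    exact H.cube _ hq
  · calc (a : G) * a * a * x * ((a : G) * a * a)⁻¹ = (a : G) * a * ((a : G) * x * (a : G)⁻¹) * ((a : G) * a)⁻¹ := by
          group
      _ = _ := by rw [hact x hx, hact2 _ (inv_mem hx), mul_inv_cancel_right]

end Half

theorem Frame.φ_pow {A Q : Subgroup G} {e f i : G} {φ : T → G} (F : Frame A Q e f i φ) {g : T} (hg : ok g) :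
    ∀ n, ok (tpow g n) ∧ φ (tpow g n) = φ g ^ n
  | 0 => ⟨show ok tone by decide +kernel, by rw [pow_zero]; exact F.φ_one⟩
  | n + 1 => by
    obtain ⟨h1, h2⟩ := F.φ_pow hg n
    exact ⟨ok_tmul _ _ hg h1, by rw [tpow, F.φ_mul _ _ hg h1, h2, pow_succ']⟩

variable {A B QA QB S : Subgroup G} (D : Pair A B QA QB S)

set_option maxHeartbeats 1000000 in
include D in
theorem Pair.exists_gens [Finite G] : ∃ e f u a φ χ, Gens A B QA QB e f u a φ χ := by
  classical
  have hSA := D.hS.trans inf_le_left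
  have hSB := D.hS.trans inf_le_right
  have hQA := D.hA.le_of_card hSA D.cardS
  have hQB := D.hB.le_of_card hSB D.cardS
  have hne : QA ≠ QB := by
    intro h
    have hh := D.core QA (hQA.trans D.hS) D.hA.normal (h ▸ D.hB.normal)
    have := D.hA.card
    rw [hh, card_bot] at this
    omega
  -- an element of `S` outside `QA`
  obtain ⟨s, hs, hsn⟩ := SetLike.exists_of_lt (lt_of_le_of_ne hQA fun h => by
    have := D.hA.card; rw [h, D.cardS] at this; omega)
  -- first basis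
  obtain ⟨⟨e0, he0⟩, he0'⟩ : ∃ x : QA, x ≠ 1 := by
    have : Finite QA := D.hA.finiteQ
    have : Nontrivial QA := Finite.one_lt_card_iff_nontrivial.1 (by rw [D.hA.card]; norm_num)
    exact exists_ne 1
  have he01 : e0 ≠ 1 := fun h => he0' (Subtype.ext h)
  obtain ⟨f0, hf0, hf0n⟩ : ∃ f0 ∈ QA, f0 ∉ zpowers e0 := by
    by_contra hc
    simp only [not_exists, not_and, not_not] at hc
    have := card_le_of_le (show QA ≤ zpowers e0 from hc)
    rw [D.hA.card, Nat.card_zpowers] at this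
    have h3 : orderOf e0 ≤ 3 := orderOf_le_of_pow_eq_one (by norm_num) (D.hA.cube' he0)
    omega
  obtain ⟨hi0, hs0⟩ := D.hA.basis he0 hf0 he01 hf0n
  obtain ⟨g0, hg0, hact0⟩ := D.hA.exists_mat he0 hf0 hi0 hs0 (hSA hs)
  have hadd0 := cv_add (D.hA.comm e0 he0 f0 hf0) (D.hA.cube' he0) (D.hA.cube' hf0)
  have hpow0 : ∀ n v, s ^ n * cv e0 f0 v * (s ^ n)⁻¹ = cv e0 f0 (tap (tpow g0 n) v) := by
    intro n
    induction n with
    | zero => intro v; rw [tpow, tap_tone, pow_zero, one_mul, inv_one, mul_one]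
    | succ n ih =>
      intro v
      rw [tpow, tap_tmul, ← hact0, ← ih, pow_succ']
      group
  have hg27 : tpow g0 27 = tone := by
    refine tap_ext (hi0 ?_) (hi0 ?_) <;> rw [← hpow0, Half.pow27 D.hA D.cardS hs, tap_tone] <;> group
  have hgne : g0 ≠ tone := fun h => hsn (D.hA.self s (hSA hs) fun x hx => by
    obtain ⟨v, rfl⟩ := hs0 x hx
    rw [← mul_inv_eq_iff_eq_mul, hact0, h, tap_tone])
  obtain ⟨x, hd0, hdfix, hx0, hxd, hxd'⟩ := three_elt g0 hg0 hg27 hgne
  set d := tap g0 x - x with hd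
  set e := cv e0 f0 d with he
  set f := cv e0 f0 x with hf
  have heQ : e ∈ QA := D.hA.cv_mem he0 hf0 d
  have hfQ : f ∈ QA := D.hA.cv_mem he0 hf0 x
  have he1 : e ≠ 1 := fun h => hd0 (hi0 (by rw [cv_zero]; exact h))
  have hfe : f ∉ zpowers e := by
    have h3 : orderOf e = 3 := by
      have : Fact (Nat.Prime 3) := ⟨Nat.prime_three⟩
      exact orderOf_eq_prime (D.hA.cube' heQ) he1
    intro h
    obtain ⟨k, hk⟩ := h
    obtain ⟨n, hn, hh⟩ : ∃ n < 3, e ^ n = f := by
      refine ⟨(k % 3).toNat, by omega, ?_⟩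
      have hk' : e ^ k = f := hk
      rw [← hk', ← zpow_natCast, Int.toNat_of_nonneg (Int.emod_nonneg _ (by norm_num)),
        ← zpow_mod_orderOf e k, h3]
      rfl
    rcases (show n = 0 ∨ n = 1 ∨ n = 2 by omega) with rfl | rfl | rfl
    · exact hx0 (hi0 (by rw [cv_zero, ← hf, ← hh, pow_zero]))
    · exact hxd (hi0 (by rw [← hf, ← hh, pow_one]))
    · refine hxd' (hi0 ?_)
      have h2 : ∀ d : V, -d = d + d := by decide +kernel
      rw [← hf, ← hh, h2 d, hadd0, ← he, pow_two]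
  have hse : s * e * s⁻¹ = e := by rw [he, hact0, hdfix]
  have hsf : s * f * s⁻¹ = e * f := by
    rw [hf, hact0, he, ← hadd0]
    refine congrArg (cv e0 f0) ?_
    rw [hd, sub_add_cancel]
  obtain ⟨i, hiA, hii, hinv⟩ := D.hA.exists_neg heQ hfQ he1 hfe
  obtain ⟨φ, F⟩ := D.hA.exists_frame heQ hfQ he1 hfe hiA hii hinv
  have hψ : ∀ p q : Aff, ok p.2 → ok q.2 → amul p q = amul q p →
      ψ e f φ p * ψ e f φ q = ψ e f φ q * ψ e f φ p := by
    intro p q hp hq h
    rw [← F.ψ_mul p q hp hq, ← F.ψ_mul q p hq hp, h]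
  have okU : ok tU := by decide +kernel
  have okA : ok tA := by decide +kernel
  have okB : ok tB := by decide +kernel
  have okN : ok tneg := by decide +kernel
  set u := φ tU with hu
  set a := φ tA with ha
  set b := φ tB with hb
  -- `u` lies in `S`
  have huS : u ∈ S := by
    have h1 : s⁻¹ * u ∈ QA := by
      refine D.hA.self _ (mul_mem (inv_mem (hSA hs)) (F.φ_mem _ okU)) fun y hy => ?_
      obtain ⟨v, rfl⟩ := F.cv_surj y hy
      have hsv : ∀ v, s * cv e f v * s⁻¹ = cv e f (tap tU v) := by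
        rintro ⟨m, n⟩
        have e1 : s * cv e f (m, n) * s⁻¹ = (s * e * s⁻¹) ^ m.val * (s * f * s⁻¹) ^ n.val := by
          rw [conj_pow, conj_pow]; simp only [cv]; group
        rw [e1, hse, hsf, Commute.mul_pow (D.hA.comm e heQ f hfQ), ← mul_assoc]
        have htap : tap tU (m, n) = (m + n, n) := by simp [tap, tU]
        rw [htap]
        show _ = e ^ (m + n).val * f ^ n.val
        rw [ZMod.val_add, ← pow_eq_pow_mod _ F.he, pow_add]
      rw [← mul_inv_eq_iff_eq_mul]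
      calc s⁻¹ * u * cv e f v * (s⁻¹ * u)⁻¹ = s⁻¹ * (u * cv e f v * u⁻¹) * s := by group
        _ = _ := by rw [hu, F.φ_act _ okU, ← hsv]; group
    have := mul_mem hs (hQA h1)
    rwa [mul_inv_cancel_left] at this
  -- the elements of `S`
  have hSform : ∀ y ∈ S, ∃ m n g, (g = tone ∨ g = tU ∨ g = tmul tU tU) ∧ ok g ∧ y = ψ e f φ ((m, n), g) := by
    intro y hy
    obtain ⟨⟨m, n⟩, g, hg, rfl⟩ := F.cover y (hSA hy)
    have hgS : φ g ∈ S := by
      have := mul_mem (inv_mem (hQA (D.hA.cv_mem heQ hfQ (m, n)))) hy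
      rwa [inv_mul_cancel_left] at this
    have h27 : ∀ g, ok g → φ g ∈ S → tpow g 27 = tone := fun g hg hgS =>
      F.φ_inj _ _ (F.φ_pow hg 27).1 (by decide +kernel) (by
        rw [(F.φ_pow hg 27).2, Half.pow27 D.hA D.cardS hgS, F.φ_one])
    refine ⟨m, n, g, upper_only g hg (h27 g hg hgS) (h27 _ (ok_tmul _ _ hg okU) ?_), hg, rfl⟩
    rw [F.φ_mul _ _ hg okU]
    exact mul_mem hgS huS
  have ψe : ψ e f φ ((1, 0), tone) = e := by
    show cv e f (1, 0) * φ tone = e
    rw [F.φ_one, mul_one, cv_e]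
  have ψf : ψ e f φ ((0, 1), tone) = f := by
    show cv e f (0, 1) * φ tone = f
    rw [F.φ_one, mul_one, cv_f]
  have ψg : ∀ g, ψ e f φ ((0, 0), g) = φ g := fun g => by
    show cv e f 0 * φ g = φ g
    rw [cv_zero, one_mul]
  have hecomm : ∀ y ∈ S, e * y = y * e := by
    intro y hy
    obtain ⟨m, n, g, hg, hgok, rfl⟩ := hSform y hy
    have := hψ ((1, 0), tone) ((m, n), g) (by decide +kernel) hgok
      ((show ∀ (m n : ZMod 3) (g : T), g = tone ∨ g = tU ∨ g = tmul tU tU →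
        amul ((1, 0), tone) ((m, n), g) = amul ((m, n), g) ((1, 0), tone) by decide +kernel) m n g hg)
    rwa [ψe] at this
  have hcenter : ∀ z ∈ S, (∀ y ∈ S, z * y = y * z) → ∃ m, z = cv e f (m, 0) := by
    intro z hz hzc
    obtain ⟨m, n, g, hg, hgok, rfl⟩ := hSform z hz
    have okF : ok (((0, 1), tone) : Aff).2 := by decide +kernel
    have h1 : amul ((m, n), g) ((0, 1), tone) = amul ((0, 1), tone) ((m, n), g) :=
      F.ψ_inj D.hA _ _ (ok_amul _ _ hgok okF) (ok_amul _ _ okF hgok) (by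
        rw [F.ψ_mul _ _ hgok okF, F.ψ_mul _ _ okF hgok, ψf]; exact hzc f (hQA hfQ))
    have h2 : amul ((m, n), g) ((0, 0), tU) = amul ((0, 0), tU) ((m, n), g) :=
      F.ψ_inj D.hA _ _ (ok_amul _ _ hgok okU) (ok_amul _ _ okU hgok) (by
        rw [F.ψ_mul _ _ hgok okU, F.ψ_mul _ _ okU hgok, ψg]; exact hzc u huS)
    obtain ⟨rfl, rfl⟩ := center_model m n g hg h1 h2
    exact ⟨m, by show cv e f (m, 0) * φ tone = _; rw [F.φ_one, mul_one]⟩
  -- elements normalizing the centre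
  have hnorm : ∀ y : G, (y * e * y⁻¹ = e ∨ y * e * y⁻¹ = e⁻¹) → y ∈ A ⊓ B := by
    intro y hy
    have key : ∀ y : G, (y * e * y⁻¹ = e ∨ y * e * y⁻¹ = e⁻¹) → ∀ z ∈ S, (∀ t ∈ S, z * t = t * z) →
        y * z * y⁻¹ ∈ S ∧ ∀ t ∈ S, y * z * y⁻¹ * t = t * (y * z * y⁻¹) := by
      intro y hy z hz hzc
      obtain ⟨m, rfl⟩ := hcenter z hz hzc
      have e1 : y * cv e f (m, 0) * y⁻¹ = (y * e * y⁻¹) ^ m.val := by rw [conj_pow]; simp [cv]
      rw [e1]
      rcases hy with h | h <;> rw [h]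
      · exact ⟨pow_mem (hQA heQ) _, fun t ht => (Commute.pow_left (hecomm t ht) _).eq⟩
      · exact ⟨pow_mem (inv_mem (hQA heQ)) _, fun t ht =>
          (Commute.pow_left (Commute.inv_left (hecomm t ht)) _).eq⟩
    refine D.norm y (key y hy) fun z hz hzc => ?_
    have := key y⁻¹ (by
      rcases hy with h | h
      · left; rw [inv_inv]; nth_rewrite 1 [← h]; group
      · right
        rw [inv_inv]
        calc y⁻¹ * e * y = (y⁻¹ * (y * e * y⁻¹) * y)⁻¹ := by rw [h]; group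
          _ = e⁻¹ := by group) z hz hzc
    simpa using this
  have hae : a * e * a⁻¹ = e⁻¹ := by
    rw [ha, ← cv_e e f, F.φ_act _ okA, eq_inv_iff_mul_eq_one, ← cv_add F.hc F.he F.hf,
      show tap tA (1, 0) + (1, 0) = (0 : V) by decide +kernel, cv_zero]
  have hbe : b * e * b⁻¹ = e := by
    rw [hb, ← cv_e e f, F.φ_act _ okB, show tap tB (1, 0) = (1, 0) by decide +kernel]
  have haB : a ∈ B := (hnorm a (Or.inr hae)).2
  have hbB : b ∈ B := (hnorm b (Or.inl hbe)).2
  -- the normal subgroup of `B`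
  have heB : e ∈ QB := D.hB.self e (hSB (hQA heQ)) fun y hy => hecomm y (hQB hy)
  have huQB : u ∈ QB := by
    obtain ⟨y, hy, hyn⟩ : ∃ y ∈ QB, y ∉ zpowers e := by
      by_contra hc
      simp only [not_exists, not_and, not_not] at hc
      have := card_le_of_le (show QB ≤ zpowers e from hc)
      rw [D.hB.card, Nat.card_zpowers] at this
      have h3 : orderOf e ≤ 3 := orderOf_le_of_pow_eq_one (by norm_num) F.he
      omega
    obtain ⟨m, n, g, hg, hgok, hyψ⟩ := hSform y (hQB hy)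
    have haa : a⁻¹ = a := inv_eq_of_mul_eq_one_right (by
      rw [ha, ← F.φ_mul _ _ okA okA, show tmul tA tA = tone by decide +kernel, F.φ_one])
    obtain ⟨k, hk⟩ := conj_model m n g hg
    have hk' : cv e f (k, n + n) ∈ QB := by
      have := mul_mem (D.hB.normal a haB y hy) hy
      rw [haa, hyψ, ha, ← ψg tA, ← F.ψ_mul _ _ okA hgok, ← F.ψ_mul _ _ (ok_amul ((0, 0), tA) ((m, n), g) okA hgok) okA,
        ← F.ψ_mul _ _ (ok_amul _ ((0, 0), tA) (ok_amul ((0, 0), tA) ((m, n), g) okA hgok) okA) hgok, hk] at this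
      rwa [ψ, F.φ_one, mul_one] at this
    have hcv : ∀ m : ZMod 3, cv e f (m, 0) ∈ QB := fun m => by
      show e ^ m.val * f ^ (0 : ZMod 3).val ∈ QB
      rw [ZMod.val_zero, pow_zero, mul_one]; exact pow_mem heB _
    rcases eq_or_ne n 0 with rfl | hn
    · have hg' : φ g ∈ QB := by
        have := mul_mem (inv_mem (hcv m)) hy
        rwa [hyψ, ψ, inv_mul_cancel_left] at this
      rcases hg with rfl | rfl | rfl
      · refine absurd ?_ hyn
        rw [hyψ, ψ, F.φ_one, mul_one]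
        show e ^ m.val * f ^ (0 : ZMod 3).val ∈ zpowers e
        rw [ZMod.val_zero, pow_zero, mul_one]; exact pow_mem (mem_zpowers e) _
      · exact hg'
      · have h2 := mul_mem hg' hg'
        rwa [← F.φ_mul _ _ hgok hgok, show tmul (tmul tU tU) (tmul tU tU) = tU by decide +kernel] at h2
    · refine absurd ?_ hne
      have hf' : f ∈ QB := by
        have h3 : cv e f (0, n + n) ∈ QB := by
          have := mul_mem (hcv (-k)) hk'
          rwa [← cv_add F.hc F.he F.hf, Prod.mk_add_mk, neg_add_cancel, zero_add] at this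
        rcases (show ∀ n : ZMod 3, n ≠ 0 → n + n = 1 ∨ (n + n) + (n + n) = 1 by decide) n hn with h | h
        · rwa [h, cv_f] at h3
        · have := mul_mem h3 h3
          rwa [← cv_add F.hc F.he F.hf, Prod.mk_add_mk, add_zero, h, cv_f] at this
      have hle : QA ≤ QB := fun y hy => by
        obtain ⟨v, rfl⟩ := F.cv_surj y hy
        exact mul_mem (pow_mem heB _) (pow_mem hf' _)
      have := D.hB.finiteQ
      exact eq_of_le_of_card_ge hle (by rw [D.hA.card, D.hB.card])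
  have hue : u ∉ zpowers e := by
    intro h
    have hQ : u ∈ QA := zpowers_le.2 heQ h
    obtain ⟨v, hv⟩ := F.cv_surj u hQ
    have := F.ψ_inj D.hA (v, tone) ((0, 0), tU) (show ok tone by decide +kernel) okU (by
      rw [ψg, ← hu, ψ, F.φ_one, mul_one, hv])
    exact absurd (congrArg Prod.snd this) (show tone ≠ tU by decide +kernel)
  have hau : a * u * a⁻¹ = u⁻¹ := by
    rw [eq_inv_iff_mul_eq_one, mul_assoc, mul_assoc, ha, hu]
    have haa : (φ tA)⁻¹ = φ tA := inv_eq_of_mul_eq_one_right (by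
      rw [← F.φ_mul _ _ okA okA, show tmul tA tA = tone by decide +kernel, F.φ_one])
    rw [haa, ← F.φ_mul _ _ okA okU, ← F.φ_mul _ _ okU (ok_tmul _ _ okA okU),
      ← F.φ_mul _ _ okA (ok_tmul _ _ okU (ok_tmul _ _ okA okU)),
      show tmul tA (tmul tU (tmul tA tU)) = tone by decide +kernel, F.φ_one]
  obtain ⟨hinjB, hsurjB⟩ := D.hB.basis heB huQB he1 hue
  have hainv : ∀ y ∈ QB, a * y * a⁻¹ = y⁻¹ := by
    intro y hy
    obtain ⟨v, rfl⟩ := hsurjB y hy
    have hc : Commute e u := D.hB.comm e heB u huQB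
    show a * (e ^ v.1.val * u ^ v.2.val) * a⁻¹ = (e ^ v.1.val * u ^ v.2.val)⁻¹
    rw [show a * (e ^ v.1.val * u ^ v.2.val) * a⁻¹ = (a * e * a⁻¹) ^ v.1.val * (a * u * a⁻¹) ^ v.2.val by
      rw [conj_pow, conj_pow]; group, hae, hau, inv_pow, inv_pow, ← mul_inv_rev, (hc.pow_pow _ _).eq]
  have haa2 : a * a = 1 := by
    rw [ha, ← F.φ_mul _ _ okA okA, show tmul tA tA = tone by decide +kernel, F.φ_one]
  obtain ⟨χ, Fb⟩ := D.hB.exists_frame heB huQB he1 hue haB haa2 hainv
  have hcomm : ∀ g, ok g → tmul g tA = tmul tA g → φ g * a = a * φ g := fun g hg h => by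
    rw [ha, ← F.φ_mul _ _ hg okA, ← F.φ_mul _ _ okA hg, h]
  have hconjU : ∀ g h, ok g → ok h → tmul g tU = tmul h g → φ g * u * (φ g)⁻¹ = φ h := fun g h hg hh he' => by
    rw [mul_inv_eq_iff_eq_mul, hu, ← F.φ_mul _ _ hg okU, he', F.φ_mul _ _ hh hg]
  have hu2 : φ (tmul tU tU) = u ^ 2 := by rw [F.φ_mul _ _ okU okU, pow_two]
  refine ⟨e, f, u, a, φ, χ, ⟨i, F⟩, Fb, rfl, rfl, ?_, ?_, ?_, fun y hy => (hnorm y (Or.inl hy)).1⟩
  · refine ((Fb.spec (φ tneg) ?_ (hcomm _ okN (by decide +kernel)) tA ?_ ?_).2).symm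
    · rw [show tneg = tmul tA tB by decide +kernel, F.φ_mul _ _ okA okB]; exact mul_mem haB hbB
    · rw [show tap tA (1, 0) = ((2, 0) : V) by decide +kernel, ← cv_e e f, F.φ_act _ okN,
        show tap tneg (1, 0) = ((2, 0) : V) by decide +kernel]
      simp [cv, show ((1 : ZMod 3)).val = 1 from rfl]
    · rw [show tap tA (0, 1) = ((0, 1) : V) by decide +kernel, cv_f,
        hconjU tneg tU okN okU (by decide +kernel)]
  · refine ((Fb.spec b hbB (hcomm _ okB (by decide +kernel)) tB ?_ ?_).2).symm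
    · rw [hbe, show tap tB (1, 0) = ((1, 0) : V) by decide +kernel, cv_e]
    · rw [hb, hconjU tB (tmul tU tU) okB (by decide +kernel) (by decide +kernel), hu2,
        show tap tB (0, 1) = ((0, 2) : V) by decide +kernel]
      simp [cv, show ((2 : ZMod 3)).val = 2 from rfl]
  · refine ((Fb.spec f⁻¹ (inv_mem (hSB (hQA hfQ))) ?_ tU ?_ ?_).2).symm
    · have : a * f * a⁻¹ = f := by
        rw [ha, ← cv_f e f, F.φ_act _ okA, show tap tA (0, 1) = ((0, 1) : V) by decide +kernel]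
      exact (Commute.inv_left (mul_inv_eq_iff_eq_mul.1 this).symm).eq
    · rw [show tap tU (1, 0) = ((1, 0) : V) by decide +kernel, cv_e, inv_inv,
        (Commute.inv_left F.hc.symm).eq, mul_assoc, inv_mul_cancel, mul_one]
    · rw [show tap tU (0, 1) = ((1, 1) : V) by decide +kernel, inv_inv]
      show f⁻¹ * u * f = e ^ (1 : ZMod 3).val * u ^ (1 : ZMod 3).val
      rw [show (1 : ZMod 3).val = 1 from rfl, pow_one, pow_one]
      have e1 : u * f * u⁻¹ = e * f := by
        rw [hu, ← cv_f e f, F.φ_act _ okU, show tap tU (0, 1) = ((1, 0) + (0, 1) : V) by decide +kernel,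
          cv_add F.hc F.he F.hf, cv_e]
      calc f⁻¹ * u * f = f⁻¹ * (u * f * u⁻¹) * u := by group
        _ = f⁻¹ * (e * f) * u := by rw [e1]
        _ = _ := by rw [F.hc.eq, inv_mul_cancel_left]

end CfsgLib.MTwelveAmalgam
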